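import Mathlib

/-!
# Frobenius' theorem on the number of solutions of `g ^ m = 1` (helper418)

`frobenius_dvd : m ∣ Nat.card G → m ∣ Nat.card {g : G // g ^ m = 1}`
-/

set_option autoImplicit false

namespace Cfsg.Agent.H418.Frob

universe u

/-- number of solutions -/
noncomputable def cnt (G : Type u) [Group G] (m : ℕ) : ℕ := Nat.card {g : G // g ^ m = 1}

theorem cnt_gcd (G : Type u) [Group G] [Finite G] (s : ℕ) :
    cnt G s = cnt G (Nat.gcd s (Nat.card G)) := by
  unfold cnt
  refine Nat.card_congr (Equiv.subtypeEquivRight fun g => ?_)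
  constructor
  · intro h
    exact pow_gcd_eq_one.2 ⟨h, pow_card_eq_one'⟩
  · intro h
    exact (pow_gcd_eq_one.1 h).1

/-- generators of a cyclic subgroup -/
theorem card_gen {G : Type u} [Group G] [Finite G] (x : G) :
    Nat.card {y : G // Subgroup.zpowers y = Subgroup.zpowers x} = Nat.totient (orderOf x) := by
  classical
  have := Fintype.ofFinite G
  have h1 : Nat.card {y : G // Subgroup.zpowers y = Subgroup.zpowers x} =
      Nat.card {z : Subgroup.zpowers x // orderOf z = orderOf x} := by
    refine Nat.card_congr ⟨fun y => ⟨⟨y.1, by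
        have h := Subgroup.mem_zpowers y.1
        rwa [y.2] at h⟩, ?_⟩,
      fun z => ⟨z.1.1, ?_⟩, ?_, ?_⟩
    · rw [Subgroup.orderOf_mk, ← Nat.card_zpowers, y.2, Nat.card_zpowers]
    · apply Subgroup.eq_of_le_of_card_ge
      · rw [Subgroup.zpowers_le]; exact z.1.2
      · rw [Nat.card_zpowers, Nat.card_zpowers]
        have := z.2
        rw [← Subgroup.orderOf_coe] at this
        exact this.ge
    · intro y; rfl
    · intro z; rfl
  rw [h1]
  have h2 := IsCyclic.card_orderOf_eq_totient (α := Subgroup.zpowers x) (d := orderOf x)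
    (by rw [← Nat.card_eq_fintype_card, Nat.card_zpowers])
  rw [← h2, Nat.card_eq_fintype_card, Fintype.card_subtype]

/-- the solutions of `z ^ s = 1` in the centraliser of an element `y` whose order is coprime to `s`
are counted in the quotient by `⟨y⟩` -/
theorem cnt_quot {C : Type u} [Group C] [Finite C] (Z : Subgroup C) (hZ : Z ≤ Subgroup.center C)
    [hn : Z.Normal] (s : ℕ) (hs : Nat.Coprime s (Nat.card Z)) : cnt C s = cnt (C ⧸ Z) s := by
  unfold cnt
  refine Nat.card_congr (Equiv.ofBijective
    (fun z => ⟨(z.1 : C ⧸ Z), by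
      have h := z.2
      rw [← QuotientGroup.mk_pow, h, QuotientGroup.mk_one]⟩) ⟨?_, ?_⟩)
  · rintro ⟨z1, h1⟩ ⟨z2, h2⟩ h
    simp only [Subtype.mk.injEq] at h
    rw [QuotientGroup.eq] at h
    have hc : Commute z1 (z1⁻¹ * z2) := by
      have := hZ h
      exact ((Subgroup.mem_center_iff.1 this) z1)
    have h3 : (z1⁻¹ * z2) ^ s = 1 := by
      have h4 : z2 = z1 * (z1⁻¹ * z2) := by group
      rw [h4, hc.mul_pow, h1, one_mul] at h2
      exact h2
    have h5 : (⟨z1⁻¹ * z2, h⟩ : Z) ^ s = 1 := Subtype.ext h3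
    have h6 : (⟨z1⁻¹ * z2, h⟩ : Z) = 1 := by
      have h7 := pow_gcd_eq_one.2 ⟨h5, pow_card_eq_one' (x := (⟨z1⁻¹ * z2, h⟩ : Z))⟩
      rw [hs, pow_one] at h7
      exact h7
    have h8 : z1⁻¹ * z2 = 1 := congrArg Subtype.val h6
    exact Subtype.ext (inv_mul_eq_one.1 h8)
  · rintro ⟨w, hw⟩
    obtain ⟨c, rfl⟩ := QuotientGroup.mk_surjective w
    rw [← QuotientGroup.mk_pow, QuotientGroup.eq_one_iff] at hw
    -- `c ^ s = y ∈ Z`
    obtain ⟨k, hk⟩ : ∃ k : ℕ, ((⟨c ^ s, hw⟩ : Z) ^ k) ^ s = (⟨c ^ s, hw⟩ : Z) := by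
      obtain ⟨k, hk⟩ := exists_pow_eq_self_of_coprime (x := (⟨c ^ s, hw⟩ : Z)) (n := s)
        (Nat.Coprime.coprime_dvd_right (orderOf_dvd_natCard _) hs)
      exact ⟨k, by rw [← pow_mul, mul_comm, pow_mul]; exact hk⟩
    have hk' : ((c ^ s) ^ k) ^ s = c ^ s := congrArg Subtype.val hk
    have hmem : (c ^ s) ^ k ∈ Z := Z.pow_mem hw k
    have hc : Commute c ((c ^ s) ^ k)⁻¹ := by
      refine Commute.inv_right ?_
      exact (Subgroup.mem_center_iff.1 (hZ hmem)) c
    refine ⟨⟨c * ((c ^ s) ^ k)⁻¹, ?_⟩, ?_⟩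
    · rw [hc.mul_pow, inv_pow, hk', mul_inv_cancel]
    · simp only [Subtype.mk.injEq]
      rw [QuotientGroup.eq]
      have : (c * ((c ^ s) ^ k)⁻¹)⁻¹ * c = (c ^ s) ^ k := by group
      rw [this]
      exact hmem

/-- splitting an element of order dividing `a * b` -/
theorem exists_exponents {a b : ℕ} (hab : Nat.Coprime a b) :
    ∃ u v : ℕ, b ∣ u ∧ a ∣ v ∧ u ≡ 1 [MOD a] ∧ v ≡ 1 [MOD b] ∧ u + v ≡ 1 [MOD a * b] := by
  obtain ⟨u, hu1, hu2⟩ := Nat.chineseRemainder hab 1 0
  obtain ⟨v, hv1, hv2⟩ := Nat.chineseRemainder hab 0 1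
  refine ⟨u, v, (Nat.modEq_zero_iff_dvd).1 hu2, (Nat.modEq_zero_iff_dvd).1 hv1, hu1, hv2, ?_⟩
  rw [← Nat.modEq_and_modEq_iff_modEq_mul hab]
  exact ⟨by simpa using hu1.add hv1, by simpa using hu2.add hv2⟩

/-- the set `A = {x : x ^ (n p) = 1, x ^ n ≠ 1}`, `n = p ^ a * s`, has size divisible by `p ^ a` -/
theorem pow_dvd_card {G : Type u} [Group G] [Finite G] {p a s : ℕ} (hp : p.Prime) (hs : ¬ p ∣ s) :
    p ^ a ∣ Nat.card {x : G // x ^ (p ^ a * s * p) = 1 ∧ x ^ (p ^ a * s) ≠ 1} := by
  classical
  have := Fintype.ofFinite G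
  rw [Nat.card_eq_fintype_card, Fintype.card_subtype]
  rw [Finset.card_eq_sum_card_fiberwise (f := fun x : G => Subgroup.zpowers x) (t := Finset.univ)
    (fun x _ => Finset.mem_univ _)]
  apply Finset.dvd_sum
  intro K _
  by_cases hne : ((Finset.univ.filter fun x : G => x ^ (p ^ a * s * p) = 1 ∧ x ^ (p ^ a * s) ≠ 1).filter
      fun x => Subgroup.zpowers x = K).Nonempty
  · obtain ⟨x, hx⟩ := hne
    rw [Finset.mem_filter, Finset.mem_filter] at hx
    obtain ⟨⟨-, hx1, hx2⟩, rfl⟩ := hx
    have h1 : ((Finset.univ.filter fun y : G => y ^ (p ^ a * s * p) = 1 ∧ y ^ (p ^ a * s) ≠ 1).filter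
      fun y => Subgroup.zpowers y = Subgroup.zpowers x) =
        Finset.univ.filter fun y => Subgroup.zpowers y = Subgroup.zpowers x := by
      rw [Finset.filter_filter]
      apply Finset.filter_congr
      intro y _
      constructor
      · exact fun h => h.2
      · intro h
        refine ⟨?_, h⟩
        have h2 : orderOf y = orderOf x := by rw [← Nat.card_zpowers, h, Nat.card_zpowers]
        rw [← orderOf_dvd_iff_pow_eq_one, h2, Ne, ← orderOf_dvd_iff_pow_eq_one, h2,
          orderOf_dvd_iff_pow_eq_one, orderOf_dvd_iff_pow_eq_one]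
        exact ⟨hx1, hx2⟩
    rw [h1]
    have h2 := card_gen x
    rw [Nat.card_eq_fintype_card, Fintype.card_subtype] at h2
    rw [h2]
    -- `p ^ (a + 1)` divides the order of `x`
    have h3 : p ^ (a + 1) ∣ orderOf x := by
      have hox := orderOf_dvd_of_pow_eq_one hx1
      have hox2 : ¬ orderOf x ∣ p ^ a * s := fun h => hx2 (orderOf_dvd_iff_pow_eq_one.1 h)
      by_contra hcon
      apply hox2
      have hpos : 0 < orderOf x := orderOf_pos x
      rw [← Nat.factorization_prime_le_iff_dvd hpos.ne'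
        (by
          rcases Nat.eq_zero_or_pos s with h | h
          · exact absurd (by rw [h]; exact dvd_zero p) hs
          · exact (Nat.mul_pos (pow_pos hp.pos a) h).ne')]
      intro r hr
      have hs0 : s ≠ 0 := by
        rintro rfl
        exact hs (dvd_zero p)
      have h4 := (Nat.factorization_prime_le_iff_dvd hpos.ne'
        (Nat.mul_ne_zero (Nat.mul_ne_zero (pow_ne_zero a hp.ne_zero) hs0) hp.ne_zero)).2 hox r hr
      rw [Nat.factorization_mul (Nat.mul_ne_zero (pow_ne_zero a hp.ne_zero) hs0) hp.ne_zero,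
        Finsupp.add_apply, hp.factorization] at h4
      by_cases hrp : r = p
      · subst hrp
        rw [Nat.factorization_mul (pow_ne_zero a hr.ne_zero) hs0, Finsupp.add_apply,
          Nat.factorization_pow, Finsupp.smul_apply, hr.factorization_self,
          Nat.factorization_eq_zero_of_not_dvd hs]
        have h5 : (orderOf x).factorization r < a + 1 := by
          by_contra h6
          exact hcon ((hr.pow_dvd_iff_le_factorization hpos.ne').2 (not_lt.1 h6))
        simp only [smul_eq_mul, mul_one, add_zero]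
        omega
      · rw [Finsupp.single_eq_of_ne hrp] at h4
        simpa using h4
    have h4 : Nat.totient (p ^ (a + 1)) ∣ Nat.totient (orderOf x) := Nat.totient_dvd_of_dvd h3
    rw [Nat.totient_prime_pow_succ hp] at h4
    exact (Dvd.intro _ rfl).trans h4
  · rw [Finset.not_nonempty_iff_eq_empty] at hne
    rw [hne, Finset.card_empty]
    exact dvd_zero _

/-- `A` as a union over the elements `y` of order `p ^ (a + 1)` -/
theorem card_A {G : Type u} [Group G] [Fintype G] [DecidableEq G] {p a s : ℕ} (hp : p.Prime)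
    (hs : ¬ p ∣ s) :
    Nat.card {x : G // x ^ (p ^ a * s * p) = 1 ∧ x ^ (p ^ a * s) ≠ 1} =
      ∑ y ∈ Finset.univ.filter (fun y : G => orderOf y = p ^ (a + 1)),
        cnt (Subgroup.centralizer {y}) s := by
  classical
  have hcop : Nat.Coprime (p ^ (a + 1)) s := Nat.Coprime.pow_left _ ((Nat.Prime.coprime_iff_not_dvd hp).2 hs)
  obtain ⟨u, v, hu, hv, hu1, hv1, huv⟩ := exists_exponents hcop
  have hn : p ^ a * s * p = p ^ (a + 1) * s := by ring
  -- the map
  have key : Nat.card {x : G // x ^ (p ^ a * s * p) = 1 ∧ x ^ (p ^ a * s) ≠ 1} =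
      Nat.card (Σ y : {y : G // orderOf y = p ^ (a + 1)}, {z : Subgroup.centralizer {y.1} // z ^ s = 1}) := by
    refine Nat.card_congr ?_
    symm
    refine Equiv.ofBijective (fun t => ⟨t.1.1 * t.2.1.1, ?_, ?_⟩) ⟨?_, ?_⟩
    · have hc : Commute t.1.1 t.2.1.1 := (Subgroup.mem_centralizer_singleton_iff.1 t.2.1.2).symm
      have hz : (t.2.1.1) ^ s = 1 := congrArg Subtype.val t.2.2
      have hy : t.1.1 ^ (p ^ (a + 1)) = 1 := by
        have h := pow_orderOf_eq_one t.1.1
        rwa [t.1.2] at h
      rw [hn, hc.mul_pow, pow_mul, hy, one_pow, one_mul, mul_comm, pow_mul, hz, one_pow]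
    · have hc : Commute t.1.1 t.2.1.1 := (Subgroup.mem_centralizer_singleton_iff.1 t.2.1.2).symm
      have hz : (t.2.1.1) ^ s = 1 := congrArg Subtype.val t.2.2
      rw [hc.mul_pow, mul_comm (p ^ a) s, pow_mul t.2.1.1, hz, one_pow, mul_one]
      intro h
      have h1 := orderOf_dvd_of_pow_eq_one h
      rw [t.1.2, pow_succ, mul_comm s] at h1
      exact hs (Nat.dvd_of_mul_dvd_mul_left (pow_pos hp.pos a) h1)
    · rintro ⟨⟨y1, hy1⟩, ⟨⟨z1, hz1⟩, hzs1⟩⟩ ⟨⟨y2, hy2⟩, ⟨⟨z2, hz2⟩, hzs2⟩⟩ h
      simp only [Subtype.mk.injEq] at h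
      have e1 : ∀ (y z : G), orderOf y = p ^ (a + 1) → z ∈ Subgroup.centralizer {y} → z ^ s = 1 →
          (y * z) ^ u = y := by
        intro y z hy hz hzs
        have hc : Commute y z := (Subgroup.mem_centralizer_singleton_iff.1 hz).symm
        obtain ⟨w, rfl⟩ := hu
        rw [hc.mul_pow, pow_mul z, hzs, one_pow, mul_one]
        have := (pow_eq_pow_iff_modEq (x := y) (n := s * w) (m := 1)).2 (by rw [hy]; exact hu1)
        rw [this, pow_one]
      have hzs1' : z1 ^ s = 1 := congrArg Subtype.val hzs1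
      have hzs2' : z2 ^ s = 1 := congrArg Subtype.val hzs2
      have h1 := e1 y1 z1 hy1 hz1 hzs1'
      have h2 := e1 y2 z2 hy2 hz2 hzs2'
      rw [h] at h1
      have h3 : y1 = y2 := h1.symm.trans h2
      subst h3
      have h4 : z1 = z2 := mul_left_cancel h
      subst h4
      rfl
    · rintro ⟨x, hx1, hx2⟩
      have hyy : (x ^ u) ^ (p ^ (a + 1)) = 1 := by
        obtain ⟨w, rfl⟩ := hu
        rw [← pow_mul, show s * w * p ^ (a + 1) = p ^ a * s * p * w by ring, pow_mul, hx1, one_pow]
      have hzz : (x ^ v) ^ s = 1 := by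
        obtain ⟨w, rfl⟩ := hv
        rw [← pow_mul, show p ^ (a + 1) * w * s = p ^ a * s * p * w by ring, pow_mul, hx1, one_pow]
      have hxx : x ^ u * x ^ v = x := by
        rw [← pow_add]
        have := (pow_eq_pow_iff_modEq (x := x) (n := u + v) (m := 1)).2
          (huv.of_dvd (orderOf_dvd_of_pow_eq_one (by rw [← hn]; exact hx1)))
        rw [this, pow_one]
      have hc : Commute (x ^ u) (x ^ v) := (Commute.refl x).pow_pow u v
      have ho : orderOf (x ^ u) = p ^ (a + 1) := by
        have : Fact p.Prime := ⟨hp⟩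
        refine orderOf_eq_prime_pow ?_ hyy
        intro h
        apply hx2
        rw [← hxx, hc.mul_pow, mul_comm (p ^ a) s, pow_mul (x ^ v), hzz, one_pow, mul_one,
          mul_comm s, pow_mul, h, one_pow]
      refine ⟨⟨⟨x ^ u, ho⟩, ⟨⟨x ^ v, Subgroup.mem_centralizer_singleton_iff.2 hc.symm⟩, Subtype.ext hzz⟩⟩, ?_⟩
      exact Subtype.ext hxx
  rw [key, Nat.card_sigma]
  rw [Finset.sum_subtype (p := fun y : G => orderOf y = p ^ (a + 1))
    (Finset.univ.filter (fun y : G => orderOf y = p ^ (a + 1)))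
    (fun y => by simp) (fun y => cnt (Subgroup.centralizer {y}) s)]
  rfl

theorem card_class {G : Type u} [Group G] [Fintype G] [DecidableEq G] (y : G) :
    (Finset.univ.filter fun x : G => ConjClasses.mk x = ConjClasses.mk y).card *
      Nat.card (Subgroup.centralizer {y}) = Nat.card G := by
  classical
  have h1 := MulAction.card_orbit_mul_card_stabilizer_eq_card_group (ConjAct G) y
  rw [Subgroup.nat_card_centralizer_nat_card_stabilizer]
  have h2 : Nat.card G = Fintype.card (ConjAct G) := by
    rw [Nat.card_eq_fintype_card]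
    exact Fintype.card_congr ConjAct.toConjAct.toEquiv
  rw [h2, ← h1, Nat.card_eq_fintype_card]
  congr 1
  rw [← Set.toFinset_card]
  congr 1
  ext x
  rw [Finset.mem_filter, Set.mem_toFinset, ConjAct.orbit_eq_carrier_conjClasses,
    ConjClasses.mem_carrier_iff_mk_eq]
  simp

theorem frobenius_dvd_aux (N : ℕ) : ∀ (G : Type u) [Group G] [Finite G], Nat.card G = N →
    ∀ m : ℕ, m ∣ Nat.card G → m ∣ cnt G m := by
  induction N using Nat.strong_induction_on with
  | _ N IH =>
  intro G _ _ hG
  classical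
  have := Fintype.ofFinite G
  -- downward induction on `m`
  suffices h : ∀ k m : ℕ, m * k = Nat.card G → m ∣ cnt G m by
    rintro m ⟨k, hk⟩
    exact h k m hk.symm
  intro k
  induction k using Nat.strong_induction_on with
  | _ k IHk =>
  intro m hmk
  have hN : 0 < Nat.card G := Nat.card_pos
  by_cases hk1 : k = 1
  · rw [hk1, mul_one] at hmk
    have : cnt G m = Nat.card G := by
      unfold cnt
      refine Nat.card_congr (Equiv.subtypeUnivEquiv fun g => ?_)
      rw [hmk]
      exact pow_card_eq_one'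
    rw [this, hmk]
  obtain ⟨p, hp, k', rfl⟩ := Nat.exists_prime_and_dvd hk1
  have hk'0 : 0 < k' := Nat.pos_of_ne_zero (by
    rintro rfl
    rw [mul_zero, mul_zero] at hmk
    omega)
  have h1 : m * p ∣ cnt G (m * p) := IHk k' (by nlinarith [hp.two_le]) (m * p) (by rw [← hmk]; ring)
  have hm0 : 0 < m := Nat.pos_of_ne_zero (by
    rintro rfl
    rw [zero_mul] at hmk
    omega)
  obtain ⟨a, s, hs, hms⟩ := Nat.exists_eq_pow_mul_and_not_dvd hm0.ne' p hp.ne_one
  -- the decomposition
  have h2 : cnt G (m * p) = cnt G m + Nat.card {x : G // x ^ (m * p) = 1 ∧ x ^ m ≠ 1} := by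
    unfold cnt
    simp only [Nat.card_eq_fintype_card, Fintype.card_subtype]
    have h3 : (Finset.univ.filter fun x : G => x ^ (m * p) = 1) =
        (Finset.univ.filter fun x : G => x ^ m = 1) ∪
          (Finset.univ.filter fun x : G => x ^ (m * p) = 1 ∧ x ^ m ≠ 1) := by
      ext x
      simp only [Finset.mem_union, Finset.mem_filter, Finset.mem_univ, true_and]
      constructor
      · intro h
        by_cases h4 : x ^ m = 1
        · exact Or.inl h4
        · exact Or.inr ⟨h, h4⟩
      · rintro (h | h)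
        · rw [pow_mul, h, one_pow]
        · exact h.1
    rw [h3, Finset.card_union_of_disjoint]
    rw [Finset.disjoint_filter]
    rintro x _ h4 ⟨_, h5⟩
    exact h5 h4
  have h3 : m ∣ Nat.card {x : G // x ^ (m * p) = 1 ∧ x ^ m ≠ 1} := by
    rw [hms]
    refine Nat.Coprime.mul_dvd_of_dvd_of_dvd (Nat.Coprime.pow_left _ ((Nat.Prime.coprime_iff_not_dvd hp).2 hs))
      (pow_dvd_card hp hs) ?_
    rw [card_A hp hs]
    -- sum over the classes
    rw [← Finset.sum_fiberwise (Finset.univ.filter (fun y : G => orderOf y = p ^ (a + 1))) ConjClasses.mk]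
    apply Finset.dvd_sum
    intro c _
    by_cases hne : ((Finset.univ.filter fun y : G => orderOf y = p ^ (a + 1)).filter
        fun y => ConjClasses.mk y = c).Nonempty
    · obtain ⟨y, hy⟩ := hne
      rw [Finset.mem_filter, Finset.mem_filter] at hy
      obtain ⟨⟨-, hy1⟩, rfl⟩ := hy
      have h4 : ∀ x ∈ ((Finset.univ.filter fun x : G => orderOf x = p ^ (a + 1)).filter
          fun x => ConjClasses.mk x = ConjClasses.mk y),
          cnt (Subgroup.centralizer {x}) s = cnt (Subgroup.centralizer {y}) s := by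
        intro x hx
        rw [Finset.mem_filter, ConjClasses.mk_eq_mk_iff_isConj, isConj_iff] at hx
        obtain ⟨-, g, hg⟩ := hx
        unfold cnt
        refine Nat.card_congr ?_
        let f : Subgroup.centralizer {x} ≃* Subgroup.centralizer {y} :=
          { toFun := fun z => ⟨g * z.1 * g⁻¹, by
              have hz := Subgroup.mem_centralizer_singleton_iff.1 z.2
              rw [Subgroup.mem_centralizer_singleton_iff, ← hg]
              calc g * z.1 * g⁻¹ * (g * x * g⁻¹) = g * (z.1 * x) * g⁻¹ := by group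
                _ = g * (x * z.1) * g⁻¹ := by rw [hz]
                _ = g * x * g⁻¹ * (g * z.1 * g⁻¹) := by group⟩
            invFun := fun z => ⟨g⁻¹ * z.1 * g, by
              have hz := Subgroup.mem_centralizer_singleton_iff.1 z.2
              rw [Subgroup.mem_centralizer_singleton_iff]
              have hx' : x = g⁻¹ * y * g := by rw [← hg]; group
              rw [hx']
              calc g⁻¹ * z.1 * g * (g⁻¹ * y * g) = g⁻¹ * (z.1 * y) * g := by group
                _ = g⁻¹ * (y * z.1) * g := by rw [hz]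
                _ = g⁻¹ * y * g * (g⁻¹ * z.1 * g) := by group⟩
            left_inv := fun z => Subtype.ext (by simp [mul_assoc])
            right_inv := fun z => Subtype.ext (by simp [mul_assoc])
            map_mul' := fun z w => Subtype.ext (by simp [mul_assoc]) }
        refine f.toEquiv.subtypeEquiv fun z => ?_
        show z ^ s = 1 ↔ (f z) ^ s = 1
        rw [← map_pow, map_eq_one_iff f f.injective]
      rw [Finset.sum_congr rfl h4, Finset.sum_const, smul_eq_mul]
      have h5 : ((Finset.univ.filter fun x : G => orderOf x = p ^ (a + 1)).filter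
          fun x => ConjClasses.mk x = ConjClasses.mk y) =
          Finset.univ.filter fun x : G => ConjClasses.mk x = ConjClasses.mk y := by
        rw [Finset.filter_filter]
        apply Finset.filter_congr
        intro x _
        constructor
        · exact fun h => h.2
        · intro h
          refine ⟨?_, h⟩
          rw [ConjClasses.mk_eq_mk_iff_isConj, isConj_iff] at h
          obtain ⟨g, hg⟩ := h
          rw [← hy1, ← hg]
          exact (orderOf_injective (MulAut.conj g).toMonoidHom (MulAut.conj g).injective x).symm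
      rw [h5]
      have h6 : (Finset.univ.filter fun x : G => ConjClasses.mk x = ConjClasses.mk y).card *
          Nat.card (Subgroup.centralizer {y}) = Nat.card G := card_class y
      set C := Subgroup.centralizer ({y} : Set G) with hC
      have hyC : y ∈ C := Subgroup.mem_centralizer_singleton_iff.2 rfl
      let Z : Subgroup C := Subgroup.zpowers (⟨y, hyC⟩ : C)
      have hZ : Z ≤ Subgroup.center C := by
        rw [Subgroup.zpowers_le, Subgroup.mem_center_iff]
        intro z
        exact Subtype.ext (Subgroup.mem_centralizer_singleton_iff.1 z.2)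
      have hZn : Z.Normal := by
        constructor
        intro n hn g
        have h7 := (Subgroup.mem_center_iff.1 (hZ hn)) g
        have h8 : g * n * g⁻¹ = n := by rw [h7]; group
        rw [h8]
        exact hn
      have hZc : Nat.card Z = p ^ (a + 1) := by
        rw [Nat.card_zpowers, Subgroup.orderOf_mk, hy1]
      have hcop : Nat.Coprime s (Nat.card Z) := by
        rw [hZc]
        exact (Nat.Coprime.pow_left _ ((Nat.Prime.coprime_iff_not_dvd hp).2 hs)).symm
      have hCq : Nat.card C = Nat.card (C ⧸ Z) * Nat.card Z := Subgroup.card_eq_card_quotient_mul_card_subgroup Z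
      have hCG : Nat.card C ≤ Nat.card G := Nat.le_of_dvd hN (Subgroup.card_subgroup_dvd_card C)
      have hqpos : 0 < Nat.card (C ⧸ Z) := Nat.card_pos
      have hlt : Nat.card (C ⧸ Z) < N := by
        have h7 : 1 < p ^ (a + 1) := Nat.one_lt_pow (by omega) hp.one_lt
        rw [hZc] at hCq
        rw [← hG]
        nlinarith
      have h7 : Nat.gcd s (Nat.card C) ∣ cnt C s := by
        rw [cnt_quot Z hZ s hcop, cnt_gcd (C ⧸ Z) s]
        have h8 : Nat.gcd s (Nat.card C) = Nat.gcd s (Nat.card (C ⧸ Z)) := by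
          rw [hCq]
          exact Nat.Coprime.gcd_mul_right_cancel_right _ hcop.symm
        rw [h8]
        exact IH _ hlt (C ⧸ Z) rfl _ (Nat.gcd_dvd_right _ _)
      have hsG : s ∣ Nat.card G := ⟨p ^ a * (p * k'), by rw [← hmk, hms]; ring⟩
      refine dvd_trans ?_ (Nat.mul_dvd_mul_left _ h7)
      rw [← Nat.gcd_mul_left, h6]
      exact Nat.dvd_gcd (Dvd.intro_left _ rfl) hsG
    · rw [Finset.not_nonempty_iff_eq_empty] at hne
      rw [hne, Finset.sum_empty]
      exact dvd_zero _
  have h4 : m ∣ cnt G (m * p) := (Dvd.intro _ rfl).trans h1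
  rw [h2] at h4
  exact (Nat.dvd_add_left h3).1 h4

/-- **Frobenius' theorem**: if `m` divides the order of `G` then it divides the number of the
solutions of `g ^ m = 1`. -/
theorem frobenius_dvd {G : Type u} [Group G] [Finite G] (m : ℕ) (hm : m ∣ Nat.card G) :
    m ∣ Nat.card {g : G // g ^ m = 1} :=
  frobenius_dvd_aux (Nat.card G) G rfl m hm

end Cfsg.Agent.H418.Frob
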