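import Mathlib
import Cfsg.Agent.H418.Deficit
import Cfsg.Agent.H418.AltAdj
import Cfsg.Agent.H363.TwoPrimes

/-!
# The degree (helper418)

`G` finite of order `n! / 2`, `p` the largest prime `≤ n`, `n ≤ p + 3`, no element of order `p * s` for primes `s` with
`n < wt s + p`, `N` a normal `p'`-subgroup and `V` a simple normal subgroup of `G ⧸ N` of order `m! / 2`, `p ≤ m ≤ n`:
then `m = n`.
-/

set_option autoImplicit false

namespace Cfsg.Agent.H418.AltFinal

open Cfsg.Agent.H418.AltAdj

universe u

/-- the deficit lemma for `|G| = |V| * c` -/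
theorem key {G : Type u} [Group G] [Finite G] {p s c : ℕ} (hp : p.Prime) (hs : s.Prime) (hne : s ≠ p)
    (hpG : ¬ p ^ 2 ∣ Nat.card G) (N : Subgroup G) [N.Normal]
    (V : Subgroup (G ⧸ N)) [V.Normal] [IsSimpleGroup V] (hpV : p ∣ Nat.card V)
    (hadj : ¬ ∃ z : G, orderOf z = p * s) (hc : Nat.card G = Nat.card V * c)
    (hlt : (p - 1).factorization s < c.factorization s) :
    ∀ t : ℕ, t.Prime → t ≠ s → t ∣ Nat.card V → ∃ j, 1 ≤ j ∧ j ≤ c.factorization s ∧ t ∣ s ^ j - 1 := by
  have hc0 : c ≠ 0 := by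
    rintro rfl
    rw [mul_zero] at hc
    exact Nat.card_pos.ne' hc
  have h1 : (Nat.card G).factorization s = (Nat.card V).factorization s + c.factorization s := by
    rw [hc, Nat.factorization_mul Nat.card_pos.ne' hc0]
    rfl
  obtain ⟨-, h2⟩ := Deficit.deficit hp hs hne hpG N V hpV hadj (by omega)
  have h3 : (Nat.card V).factorization s + (Nat.card N).factorization s ≤ (Nat.card G).factorization s := by
    have h4 := (Nat.factorization_le_iff_dvd (by
      exact Nat.mul_ne_zero Nat.card_pos.ne' Nat.card_pos.ne') Nat.card_pos.ne').2 (ChiefP.card_dvd_quot N V) s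
    rw [Nat.factorization_mul Nat.card_pos.ne' Nat.card_pos.ne'] at h4
    exact h4
  intro t ht hts htV
  obtain ⟨j, hj1, hj2, hj3⟩ := h2 t ht hts htV
  exact ⟨j, hj1, by omega, hj3⟩

/-- parity -/
theorem odd_contra {p s j : ℕ} (hp : Odd p) (hp5 : 5 ≤ p) (hs : Odd s) (hs1 : 3 ≤ s) (hj : 1 ≤ j) (hle : s ^ j ≤ p + 3)
    (hd : p ∣ s ^ j - 1) : False := by
  obtain ⟨k, hk⟩ := hd
  have h1 : s ^ 1 ≤ s ^ j := Nat.pow_le_pow_right (by omega) hj
  rw [pow_one] at h1
  have hk0 : k ≠ 0 := by
    rintro rfl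
    omega
  have hk2 : k < 2 := by
    by_contra h
    have : p * 2 ≤ p * k := Nat.mul_le_mul_left p (by omega)
    omega
  have hk1 : k = 1 := by omega
  subst hk1
  have h2 : Odd (s ^ j) := hs.pow
  obtain ⟨a, ha⟩ := hp
  obtain ⟨b, hb⟩ := h2
  omega

/-- `v_s (n c) = v_s n` for `c` prime to `s` -/
theorem fact_mul {n c s : ℕ} (hn : n ≠ 0) (hc : ¬ s ∣ c) : (n * c).factorization s = n.factorization s := by
  have hc0 : c ≠ 0 := by
    rintro rfl
    exact hc (dvd_zero s)
  rw [Nat.factorization_mul hn hc0, Finsupp.add_apply, Nat.factorization_eq_zero_of_not_dvd hc, add_zero]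

/-- the shape of `n! / m!` -/
theorem exists_c {p m n : ℕ} (hpm : p ≤ m) (hmn : m < n) (hnp : n ≤ p + 3) :
    ∃ c, n.factorial = m.factorial * (n * c) ∧ (n = p + 1 → c = 1) ∧ (n = p + 2 → c = 1 ∨ c = p + 1) ∧
      (n = p + 3 → c = 1 ∨ c = p + 2 ∨ c = (p + 1) * (p + 2)) := by
  obtain ⟨e, rfl⟩ : ∃ e, n = m + 1 + e := ⟨n - (m + 1), by omega⟩
  have he : e ≤ 2 := by omega
  interval_cases e
  · refine ⟨1, ?_, fun _ => rfl, fun _ => Or.inl rfl, fun _ => Or.inl rfl⟩
    rw [add_zero, Nat.factorial_succ]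
    ring
  · refine ⟨m + 1, ?_, fun h => ?_, fun h => Or.inr (by omega), fun h => Or.inr (Or.inl (by omega))⟩
    · rw [Nat.factorial_succ, Nat.factorial_succ]
      ring
    · omega
  · refine ⟨(m + 1) * (m + 2), ?_, fun h => ?_, fun h => ?_, fun h => Or.inr (Or.inr ?_)⟩
    · rw [show m + 1 + 2 = m + 1 + 1 + 1 by ring, Nat.factorial_succ, Nat.factorial_succ, Nat.factorial_succ]
      ring
    · omega
    · omega
    · have : m = p := by omega
      rw [this]

theorem eq_pow {n q : ℕ} (hq : q.Prime) (hn : n ≠ 0) (h : ∀ s : ℕ, s.Prime → s ∣ n → s = q) :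
    n = q ^ n.factorization q := by
  have h1 : n = q ^ n.primeFactorsList.length := Nat.eq_prime_pow_of_unique_prime_dvd hn (fun {d} hd hdn => h d hd hdn)
  have h2 : n.factorization q = n.primeFactorsList.length := by
    conv_lhs => rw [h1]
    rw [hq.factorization_pow, Finsupp.single_eq_same]
  rw [h2]
  exact h1

theorem m_eq {G : Type u} [Group G] [Finite G] {n m p : ℕ} (hn : 5 ≤ n) (hp : p.Prime) (hpn : p ≤ n)
    (hnp : n ≤ p + 3) (hmax : ∀ t : ℕ, t.Prime → t ≤ n → t ≤ p) (hG : 2 * Nat.card G = n.factorial)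
    (hadj : ∀ s : ℕ, s.Prime → s ≠ p → n < wt s + p → ¬ ∃ z : G, orderOf z = p * s)
    (hpG : ¬ p ^ 2 ∣ Nat.card G) (N : Subgroup G) [N.Normal]
    (V : Subgroup (G ⧸ N)) [V.Normal] [IsSimpleGroup V] (hV : 2 * Nat.card V = m.factorial)
    (hpV : p ∣ Nat.card V) (hT : ∀ t : ℕ, t.Prime → n < 2 * t → t ≤ n → t ∣ Nat.card V) (hmn : m ≤ n) : m = n := by
  by_contra hne
  have hpm : p ≤ m := by
    rw [← hp.dvd_factorial, ← hV]
    exact hpV.mul_left 2
  have hp5 : 5 ≤ p := by
    have := hmax 5 (by norm_num) hn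
    exact this
  have hpo : Odd p := hp.odd_of_ne_two (by omega)
  obtain ⟨c, hc, hc1, hc2, hc3⟩ := exists_c hpm (lt_of_le_of_ne hmn hne) hnp
  have hcard : Nat.card G = Nat.card V * (n * c) := by
    have h1 : 2 * Nat.card G = 2 * (Nat.card V * (n * c)) := by
      rw [hG, hc, ← hV]
      ring
    exact Nat.eq_of_mul_eq_mul_left (by norm_num) h1
  have hn0 : n ≠ 0 := by omega
  -- an odd prime divisor `s` of `n`, with `v_s (p - 1) < v_s n`, not adjacent to `p`
  have hodd : ∀ s : ℕ, s.Prime → s ≠ 2 → s ∣ n → n < s + p → (p - 1).factorization s < n.factorization s → False := by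
    intro s hs hs2 hsn hsp hlt
    have hs3 : 3 ≤ s := by
      have := hs.two_le
      omega
    have hso : Odd s := hs.odd_of_ne_two hs2
    have hsp' : s ≠ p := by
      rintro rfl
      obtain ⟨k, hk⟩ := hsn
      have hk1 : k < 2 := by
        by_contra h
        have : s * 2 ≤ s * k := Nat.mul_le_mul_left s (by omega)
        omega
      interval_cases k <;> omega
    have hsc : ¬ s ∣ c := by
      intro hd
      have hcase : s ∣ p + 1 ∧ 2 ≤ n - p ∨ s ∣ p + 2 ∧ n = p + 3 := by
        rcases Nat.lt_or_ge n (p + 2) with h | h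
        · rw [hc1 (by omega)] at hd
          exact absurd (Nat.dvd_one.1 hd) hs.one_lt.ne'
        · rcases Nat.lt_or_ge n (p + 3) with h' | h'
          · rcases hc2 (by omega) with h1 | h1
            · rw [h1] at hd
              exact absurd (Nat.dvd_one.1 hd) hs.one_lt.ne'
            · rw [h1] at hd
              exact Or.inl ⟨hd, by omega⟩
          · rcases hc3 (by omega) with h1 | h1 | h1
            · rw [h1] at hd
              exact absurd (Nat.dvd_one.1 hd) hs.one_lt.ne'
            · rw [h1] at hd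
              exact Or.inr ⟨hd, by omega⟩
            · rw [h1] at hd
              rcases hs.dvd_mul.1 hd with h2 | h2
              · exact Or.inl ⟨h2, by omega⟩
              · exact Or.inr ⟨h2, by omega⟩
      rcases hcase with ⟨h1, h2⟩ | ⟨h1, h2⟩
      · have h3 : s ∣ n - (p + 1) := Nat.dvd_sub hsn h1
        have h4 : n - (p + 1) ≤ 2 := by omega
        have := Nat.le_of_dvd (by omega) h3
        omega
      · have h3 : s ∣ n - (p + 2) := Nat.dvd_sub hsn h1
        have := Nat.le_of_dvd (by omega) h3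
        omega
    have hv := fact_mul (n := n) hn0 hsc
    obtain ⟨j, hj1, hj2, hj3⟩ := key hp hs hsp' hpG N V hpV
      (hadj s hs hsp' (by rw [wt_of_ne hs2]; exact hsp)) hcard (by rw [hv]; exact hlt) p hp (Ne.symm hsp') hpV
    refine odd_contra hpo hp5 hso hs3 hj1 ?_ hj3
    rw [hv] at hj2
    calc s ^ j ≤ s ^ n.factorization s := Nat.pow_le_pow_right hs.pos hj2
      _ ≤ n := Nat.le_of_dvd (by omega) (Nat.ordProj_dvd n s)
      _ ≤ p + 3 := hnp
  have hge5 : ∀ s : ℕ, s.Prime → 5 ≤ s → s ∣ n → False := by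
    intro s hs hs5 hsn
    refine hodd s hs (by omega) hsn (by omega) ?_
    have h1 : (p - 1).factorization s = 0 := by
      apply Nat.factorization_eq_zero_of_not_dvd
      intro hd
      have h2 : s ∣ n - (p - 1) := Nat.dvd_sub hsn hd
      have := Nat.le_of_dvd (by omega) h2
      omega
    rw [h1]
    exact (hs.dvd_iff_one_le_factorization hn0).1 hsn
  have hsmall : ∀ s : ℕ, s.Prime → s ∣ n → s = 2 ∨ s = 3 := by
    intro s hs hsn
    by_contra hcon
    push Not at hcon
    have h4 : s ≠ 4 := by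
      rintro rfl
      exact absurd hs (by norm_num)
    have := hs.two_le
    exact hge5 s hs (by omega) hsn
  have hcases : n = p + 1 ∨ n = p + 2 ∨ n = p + 3 := by omega
  rcases hcases with hnp1 | hnp2 | hnp3
  · -- `n = p + 1`
    have h3 : ¬ 3 ∣ n := by
      intro h3
      refine hodd 3 Nat.prime_three (by norm_num) h3 (by omega) ?_
      have h1 : (p - 1).factorization 3 = 0 := by
        apply Nat.factorization_eq_zero_of_not_dvd
        intro hd
        have h2 : 3 ∣ n - (p - 1) := Nat.dvd_sub h3 hd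
        have := Nat.le_of_dvd (by omega) h2
        omega
      rw [h1]
      exact (Nat.prime_three.dvd_iff_one_le_factorization hn0).1 h3
    have hpow := eq_pow Nat.prime_two hn0 (fun s hs hsn => (hsmall s hs hsn).resolve_right (by rintro rfl; exact h3 hsn))
    generalize ha : n.factorization 2 = a at hpow
    have ha3 : 3 ≤ a := by
      by_contra hlt
      have : 2 ^ a ≤ 2 ^ 2 := Nat.pow_le_pow_right (by norm_num) (by omega)
      omega
    have h8 : 8 ∣ n := by
      rw [hpow]
      exact (pow_dvd_pow 2 ha3 : 2 ^ 3 ∣ 2 ^ a)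
    have hc' := hc1 hnp1
    rw [hc', mul_one] at hcard
    have hv2 : (p - 1).factorization 2 = 1 := by
      have h1 : ¬ 2 ^ 2 ∣ p - 1 := by
        intro h
        have : 4 ∣ p - 1 := h
        omega
      have h2 : 2 ∣ p - 1 := by omega
      have h4 := (Nat.prime_two.pow_dvd_iff_le_factorization (show p - 1 ≠ 0 by omega)).not.1 h1
      have h5 := (Nat.prime_two.dvd_iff_one_le_factorization (show p - 1 ≠ 0 by omega)).1 h2
      omega
    -- another prime in `(n/2, n]`
    obtain ⟨t, ht, ht1, ht2, ht3⟩ : ∃ t : ℕ, t.Prime ∧ n < 2 * t ∧ t ≤ n ∧ t ≠ p := by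
      rcases Nat.lt_or_ge n 11 with h | h
      · have hn8 : n = 8 := by omega
        exact ⟨5, by norm_num, by omega, by omega, by omega⟩
      · obtain ⟨q, s, hq, hs, h1, h2, h4⟩ := Cfsg.Agent.H363.TwoPrimes.exists_two_primes' n h
        by_cases hqp : q = p
        · exact ⟨s, hs, by omega, h4, by omega⟩
        · exact ⟨q, hq, h1, by omega, hqp⟩
    obtain ⟨j, hj1, hj2, hj3⟩ := key hp Nat.prime_two (by omega) hpG N V hpV
      (hadj 2 Nat.prime_two (by omega) (by rw [wt_two]; omega)) hcard (by omega) t ht (by omega) (hT t ht ht1 ht2)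
    rw [ha] at hj2
    obtain ⟨k, hk⟩ := hj3
    have h2j : 2 ^ 1 ≤ 2 ^ j := Nat.pow_le_pow_right (by norm_num) hj1
    have h2a : 2 ^ j ≤ 2 ^ a := Nat.pow_le_pow_right (by norm_num) hj2
    have hk0 : k ≠ 0 := by
      rintro rfl
      omega
    have hk2 : k < 2 := by
      by_contra hlt
      have : t * 2 ≤ t * k := Nat.mul_le_mul_left t (by omega)
      omega
    have hk1 : k = 1 := by omega
    subst hk1
    have hja : j = a := by
      by_contra hne'
      have h1 : 2 * 2 ^ j ≤ 2 ^ a := by
        rw [← pow_succ']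
        exact Nat.pow_le_pow_right (by norm_num) (by omega)
      omega
    subst hja
    omega
  · -- `n = p + 2`
    have hnodd : ¬ 2 ∣ n := by
      obtain ⟨k, hk⟩ := hpo
      omega
    have hpow : n = 3 ^ n.factorization 3 :=
      eq_pow Nat.prime_three hn0 (fun d hd hdn => (hsmall d hd hdn).resolve_left (by rintro rfl; exact hnodd hdn))
    have hb2 : 2 ≤ n.factorization 3 := by
      by_contra hlt
      have : 3 ^ n.factorization 3 ≤ 3 ^ 1 := Nat.pow_le_pow_right (by norm_num) (by omega)
      omega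
    have h9 : 9 ∣ n := by
      have h1 : 3 ^ 2 ∣ 3 ^ n.factorization 3 := pow_dvd_pow 3 hb2
      rw [← hpow] at h1
      exact h1
    refine hodd 3 Nat.prime_three (by norm_num) (by omega) (by omega) ?_
    have h1 : ¬ 3 ^ 2 ∣ p - 1 := by
      intro h
      have : 9 ∣ p - 1 := h
      omega
    have h4 := (Nat.prime_three.pow_dvd_iff_le_factorization (show p - 1 ≠ 0 by omega)).not.1 h1
    omega
  · -- `n = p + 3`
    have h3 : ¬ 3 ∣ n := by
      intro h3
      have h1 : 3 ∣ p := by omega
      have := (Nat.prime_dvd_prime_iff_eq Nat.prime_three hp).1 h1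
      omega
    have hpow := eq_pow Nat.prime_two hn0 (fun s hs hsn => (hsmall s hs hsn).resolve_right (by rintro rfl; exact h3 hsn))
    generalize ha : n.factorization 2 = a at hpow
    have hn8 : n ≠ 8 := by
      intro h8
      have := hmax 7 (by norm_num) (by omega)
      omega
    have ha4 : 4 ≤ a := by
      by_contra hlt
      have h1 : a ≤ 3 := by omega
      interval_cases a <;> omega
    have h16 : 16 ∣ n := by
      rw [hpow]
      exact (pow_dvd_pow 2 ha4 : 2 ^ 4 ∣ 2 ^ a)
    have hv2 : (p - 1).factorization 2 ≤ 2 := by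
      have h1 : ¬ 2 ^ 3 ∣ p - 1 := by
        intro h
        have : 8 ∣ p - 1 := h
        omega
      have h4 := (Nat.prime_two.pow_dvd_iff_le_factorization (show p - 1 ≠ 0 by omega)).not.1 h1
      omega
    have hcv : (n * c).factorization 2 ≤ a + 1 ∧ a ≤ (n * c).factorization 2 := by
      have hc0 : c ≠ 0 := by
        rcases hc3 hnp3 with h | h | h
        · omega
        · omega
        · rw [h]
          positivity
      rw [Nat.factorization_mul hn0 hc0, Finsupp.add_apply, ha]
      refine ⟨?_, by omega⟩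
      have h1 : ¬ 2 ^ 2 ∣ c := by
        intro h
        have h4 : 4 ∣ c := h
        rcases hc3 hnp3 with h5 | h5 | h5
        · omega
        · omega
        · rw [h5] at h4
          have hcop : Nat.Coprime 4 (p + 2) := by
            have : Nat.Coprime 2 (p + 2) := by
              rw [Nat.coprime_two_left]
              obtain ⟨k, hk⟩ := hpo
              exact ⟨k + 1, by omega⟩
            exact Nat.Coprime.pow_left 2 this
          have h6 := hcop.dvd_of_dvd_mul_right h4
          omega
      have h4 := (Nat.prime_two.pow_dvd_iff_le_factorization hc0).not.1 h1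
      omega
    obtain ⟨j, hj1, hj2, hj3⟩ := key hp Nat.prime_two (by omega) hpG N V hpV
      (hadj 2 Nat.prime_two (by omega) (by rw [wt_two]; omega)) hcard (by omega) p hp (by omega) hpV
    obtain ⟨k, hk⟩ := hj3
    have h2j : 2 ^ 1 ≤ 2 ^ j := Nat.pow_le_pow_right (by norm_num) hj1
    have h2a : 2 ^ j ≤ 2 ^ (a + 1) := Nat.pow_le_pow_right (by norm_num) (by omega)
    have h2a' : 2 ^ (a + 1) = 2 * 2 ^ a := by rw [pow_succ']
    have hk0 : k ≠ 0 := by
      rintro rfl
      omega
    have hk3 : k < 3 := by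
      by_contra hlt
      have : p * 3 ≤ p * k := Nat.mul_le_mul_left p (by omega)
      omega
    have h2j' : 2 ^ j = 2 * 2 ^ (j - 1) := by rw [← pow_succ', Nat.sub_add_cancel hj1]
    have hk1 : k = 1 := by
      have : k ≠ 2 := by
        rintro rfl
        omega
      omega
    subst hk1
    have hja : a < j + 1 := by
      by_contra hlt
      have h1 : 2 * 2 ^ j ≤ 2 ^ a := by
        rw [← pow_succ']
        exact Nat.pow_le_pow_right (by norm_num) (by omega)
      omega
    have h1 : 2 ^ a ≤ 2 ^ j := Nat.pow_le_pow_right (by norm_num) (by omega)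
    omega

end Cfsg.Agent.H418.AltFinal
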