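import Mathlib
import Cfsg.Agent.Lib.MinNormal
import Cfsg.Agent.Lib.SubnormalJoin

/-!
# Chief factors of order divisible by a prime dividing the order exactly once (helper418)

* `cent_sylow`, `cent_of_num` : an element `x` of order `p` centralises a normal `p'`-subgroup `N` if no prime power
  `r ^ i` dividing `|N|`, `i ≥ 1`, is `1` modulo `p`.
* `exists_chief` : if `p` divides `|G|` exactly once, there is a normal `p'`-subgroup `N` such that `G ⧸ N` has a simple
  normal subgroup `V` of order divisible by `p`, and no nontrivial normal `p'`-subgroup.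
* `normal_of_cyclic` : if `V` has order `p` and the numerical condition holds then `G` has a normal subgroup of order `p`.
-/

set_option autoImplicit false

namespace Cfsg.Agent.H418.ChiefP

open scoped Pointwise

universe u

set_option linter.unusedSectionVars false

variable {G : Type u} [Group G] [Finite G]

/-- the conjugates of `x` under `R` number `1` modulo `p` -/
theorem card_conj_modEq {p : ℕ} (hp : p.Prime) (N : Subgroup G) [N.Normal] {x : G} (hx : orderOf x = p)
    (hpN : ¬ p ∣ Nat.card N) (R : Subgroup G) (hR : R ≤ N) (hxR : ∀ y ∈ R, x * y * x⁻¹ ∈ R) :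
    Nat.card {z : G // ∃ y ∈ R, z = y * x * y⁻¹} ≡ 1 [MOD p] := by
  classical
  have hpF : Fact p.Prime := ⟨hp⟩
  have hxk : ∀ g ∈ Subgroup.zpowers x, ∀ y ∈ R, g * y * g⁻¹ ∈ R := by
    intro g hg
    obtain ⟨k, rfl⟩ := (Subgroup.mem_zpowers_iff.1 hg)
    have hpow : ∀ k : ℕ, ∀ y ∈ R, x ^ k * y * (x ^ k)⁻¹ ∈ R := by
      intro k
      induction k with
      | zero => intro y hy; simpa using hy
      | succ k ih =>
        intro y hy
        have := ih _ (hxR y hy)
        have h2 : x ^ (k + 1) * y * (x ^ (k + 1))⁻¹ = x ^ k * (x * y * x⁻¹) * (x ^ k)⁻¹ := by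
          rw [pow_succ]; group
        rw [h2]
        exact this
    obtain ⟨m, hm⟩ : ∃ m : ℕ, x ^ k = x ^ m := by
      have h1 : x ^ k ∈ Submonoid.powers x := by
        rw [mem_powers_iff_mem_zpowers]
        exact ⟨k, rfl⟩
      obtain ⟨m, hm⟩ := h1
      exact ⟨m, hm.symm⟩
    intro y hy
    rw [hm]
    exact hpow m y hy
  let X := {z : G // ∃ y ∈ R, z = y * x * y⁻¹}
  let act : MulAction (Subgroup.zpowers x) X :=
    { smul := fun g z => ⟨g.1 * z.1 * g.1⁻¹, by
        obtain ⟨y, hy, hz⟩ := z.2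
        refine ⟨g.1 * y * g.1⁻¹, hxk g.1 g.2 y hy, ?_⟩
        rw [hz]
        have hcomm : g.1 * x = x * g.1 := by
          obtain ⟨k, hk⟩ := Subgroup.mem_zpowers_iff.1 g.2
          rw [← hk]
          exact (Commute.refl x).zpow_left k
        calc g.1 * (y * x * y⁻¹) * g.1⁻¹ = g.1 * y * g.1⁻¹ * (g.1 * x) * g.1⁻¹ * (g.1 * y * g.1⁻¹)⁻¹ := by group
          _ = g.1 * y * g.1⁻¹ * (x * g.1) * g.1⁻¹ * (g.1 * y * g.1⁻¹)⁻¹ := by rw [hcomm]
          _ = g.1 * y * g.1⁻¹ * x * (g.1 * y * g.1⁻¹)⁻¹ := by group⟩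
      one_smul := fun z => Subtype.ext (by
        show (1 : G) * z.1 * (1 : G)⁻¹ = z.1
        simp)
      mul_smul := fun g h z => Subtype.ext (by
        show (g.1 * h.1) * z.1 * (g.1 * h.1)⁻¹ = g.1 * (h.1 * z.1 * h.1⁻¹) * g.1⁻¹
        group) }
  have hP : IsPGroup p (Subgroup.zpowers x) := by
    apply IsPGroup.of_card (n := 1)
    rw [Nat.card_zpowers, hx, pow_one]
  have h1 := hP.card_modEq_card_fixedPoints X
  refine h1.trans ?_
  have h2 : Nat.card (MulAction.fixedPoints (Subgroup.zpowers x) X) = 1 := by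
    have hx1 : (⟨x, 1, R.one_mem, by simp⟩ : X) ∈ MulAction.fixedPoints (Subgroup.zpowers x) X := by
      intro g
      refine Subtype.ext ?_
      show g.1 * x * g.1⁻¹ = x
      obtain ⟨k, hk⟩ := Subgroup.mem_zpowers_iff.1 g.2
      rw [← hk]
      have : Commute (x ^ k) x := (Commute.refl x).zpow_left k
      rw [this.eq, mul_inv_cancel_right]
    have hu : Unique (MulAction.fixedPoints (Subgroup.zpowers x) X) :=
      { default := ⟨_, hx1⟩
        uniq := by
          rintro ⟨⟨z, y, hy, hz⟩, hfix⟩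
          refine Subtype.ext (Subtype.ext ?_)
          show z = x
          have h3 : x * z * x⁻¹ = z := congrArg Subtype.val (hfix ⟨x, Subgroup.mem_zpowers x⟩)
          have hc : Commute x z := by
            rw [mul_inv_eq_iff_eq_mul] at h3
            exact h3
          -- `w = z x⁻¹ ∈ N`
          have hw : z * x⁻¹ ∈ N := by
            rw [hz]
            have h4 : y * x * y⁻¹ * x⁻¹ = y * (x * y⁻¹ * x⁻¹) := by group
            rw [h4]
            exact N.mul_mem (hR hy) (Subgroup.Normal.conj_mem inferInstance _ (N.inv_mem (hR hy)) x)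
          have hzp : z ^ p = 1 := by
            rw [hz, conj_pow, ← hx, pow_orderOf_eq_one, mul_one, mul_inv_cancel]
          have hwp : (z * x⁻¹) ^ p = 1 := by
            have hxp : x⁻¹ ^ p = 1 := by rw [inv_pow, ← hx, pow_orderOf_eq_one, inv_one]
            rw [(hc.symm.inv_right).mul_pow, hzp, hxp, one_mul]
          have h5 : (⟨z * x⁻¹, hw⟩ : N) = 1 := by
            have h6 : (⟨z * x⁻¹, hw⟩ : N) ^ p = 1 := Subtype.ext hwp
            have h7 := orderOf_dvd_of_pow_eq_one h6
            rcases (Nat.dvd_prime hp).1 h7 with h8 | h8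
            · exact orderOf_eq_one_iff.1 h8
            · exfalso
              apply hpN
              rw [← h8]
              exact orderOf_dvd_natCard _
          have h6 : z * x⁻¹ = 1 := congrArg Subtype.val h5
          exact mul_inv_eq_one.1 h6 }
    exact Nat.card_unique
  rw [h2]

/-- the number of conjugates of `x` under `R` times the centraliser -/
theorem card_conj_mul (R : Subgroup G) (x : G) :
    Nat.card {z : G // ∃ y ∈ R, z = y * x * y⁻¹} * Nat.card (R ⊓ Subgroup.centralizer {x} : Subgroup G) =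
      Nat.card R := by
  classical
  let C := (Subgroup.centralizer {x}).subgroupOf R
  have h1 := Subgroup.card_eq_card_quotient_mul_card_subgroup C
  have h2 : Nat.card C = Nat.card (R ⊓ Subgroup.centralizer {x} : Subgroup G) := by
    refine Nat.card_congr ⟨fun y => ⟨y.1.1, y.1.2, y.2⟩, fun y => ⟨⟨y.1, y.2.1⟩, y.2.2⟩, ?_, ?_⟩
    · intro y; rfl
    · intro y; rfl
  rw [h1, h2]
  congr 1
  symm
  refine Nat.card_congr (Equiv.ofBijective (fun q => Quotient.liftOn' q
    (fun y : R => (⟨y.1 * x * y.1⁻¹, y.1, y.2, rfl⟩ : {z : G // ∃ y ∈ R, z = y * x * y⁻¹})) ?_) ⟨?_, ?_⟩)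
  · intro a b hab
    rw [QuotientGroup.leftRel_apply] at hab
    have h3 : (a⁻¹ * b : R).1 ∈ Subgroup.centralizer {x} := hab
    rw [Subgroup.mem_centralizer_singleton_iff] at h3
    refine Subtype.ext ?_
    show a.1 * x * a.1⁻¹ = b.1 * x * b.1⁻¹
    have h4 : b.1 = a.1 * (a⁻¹ * b : R).1 := by
      show b.1 = a.1 * (a.1⁻¹ * b.1)
      group
    rw [h4]
    calc a.1 * x * a.1⁻¹ = a.1 * (x * (a⁻¹ * b : R).1) * (a⁻¹ * b : R).1⁻¹ * a.1⁻¹ := by group
      _ = a.1 * ((a⁻¹ * b : R).1 * x) * (a⁻¹ * b : R).1⁻¹ * a.1⁻¹ := by rw [h3]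
      _ = _ := by group
  · intro q1 q2
    induction q1 using Quotient.inductionOn' with
    | _ a =>
    induction q2 using Quotient.inductionOn' with
    | _ b =>
    intro hab
    have h3 : a.1 * x * a.1⁻¹ = b.1 * x * b.1⁻¹ := congrArg Subtype.val hab
    apply Quotient.sound'
    rw [QuotientGroup.leftRel_apply]
    show (a⁻¹ * b : R).1 ∈ Subgroup.centralizer {x}
    rw [Subgroup.mem_centralizer_singleton_iff]
    show a.1⁻¹ * b.1 * x = x * (a.1⁻¹ * b.1)
    calc a.1⁻¹ * b.1 * x = a.1⁻¹ * (b.1 * x * b.1⁻¹) * b.1 := by group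
      _ = a.1⁻¹ * (a.1 * x * a.1⁻¹) * b.1 := by rw [h3]
      _ = _ := by group
  · rintro ⟨z, y, hy, rfl⟩
    exact ⟨Quotient.mk'' ⟨y, hy⟩, rfl⟩

/-- an element of order `p` centralises a Sylow `r`-subgroup of a normal `p'`-subgroup if no power `r ^ i` dividing
its order is `1` modulo `p` -/
theorem cent_sylow {p : ℕ} (hp : p.Prime) (N : Subgroup G) [hN : N.Normal] {x : G} (hx : orderOf x = p)
    (hpN : ¬ p ∣ Nat.card N) {r : ℕ} (hr : r.Prime)
    (hnum : ∀ i, 1 ≤ i → r ^ i ∣ Nat.card N → ¬ p ∣ r ^ i - 1) :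
    ∃ R : Subgroup G, R ≤ N ∧ Nat.card R = r ^ (Nat.card N).factorization r ∧ ∀ y ∈ R, Commute x y := by
  classical
  have hpF : Fact p.Prime := ⟨hp⟩
  have hrF : Fact r.Prime := ⟨hr⟩
  -- an invariant Sylow subgroup
  let act : MulAction (Subgroup.zpowers x) (Sylow r N) :=
    { smul := fun g S => MulAut.conjNormal (H := N) g.1 • S
      one_smul := fun S => by
        show MulAut.conjNormal (H := N) (1 : G) • S = S
        rw [map_one, one_smul]
      mul_smul := fun g h S => by
        show MulAut.conjNormal (H := N) (g.1 * h.1) • S = MulAut.conjNormal (H := N) g.1 • (MulAut.conjNormal (H := N) h.1 • S)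
        rw [map_mul, mul_smul] }
  have hP : IsPGroup p (Subgroup.zpowers x) := by
    apply IsPGroup.of_card (n := 1)
    rw [Nat.card_zpowers, hx, pow_one]
  have hnd : ¬ p ∣ Nat.card (Sylow r N) := by
    intro h
    apply hpN
    have S : Sylow r N := default
    exact h.trans ((Sylow.card_dvd_index S).trans (Subgroup.index_dvd_card _))
  obtain ⟨S, hS⟩ := hP.nonempty_fixed_point_of_prime_not_dvd_card (Sylow r N) hnd
  have hSx : MulAut.conjNormal (H := N) x • S = S := by
    have h0 := hS ⟨x, Subgroup.mem_zpowers x⟩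
    exact h0
  let R : Subgroup G := (S : Subgroup N).map N.subtype
  have hRN : R ≤ N := by
    rintro _ ⟨y, -, rfl⟩
    exact y.2
  have hRc : Nat.card R = r ^ (Nat.card N).factorization r := by
    rw [← Sylow.card_eq_multiplicity S]
    exact (Nat.card_congr ((S : Subgroup N).equivMapOfInjective N.subtype N.subtype_injective).toEquiv).symm
  have hRx : ∀ y ∈ R, x * y * x⁻¹ ∈ R := by
    rintro _ ⟨y, hy, rfl⟩
    refine ⟨MulAut.conjNormal (H := N) x y, ?_, ?_⟩
    · have h1 : MulAut.conjNormal (H := N) x y ∈ ((MulAut.conjNormal (H := N) x • S : Sylow r N) : Set N) := by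
        exact Set.smul_mem_smul_set hy
      rw [hSx] at h1
      exact h1
    · exact MulAut.conjNormal_apply x y
  refine ⟨R, hRN, hRc, ?_⟩
  have h1 := card_conj_modEq hp N hx hpN R hRN hRx
  have h2 := card_conj_mul R x
  -- the number of conjugates is a power of `r`
  have h3 : Nat.card {z : G // ∃ y ∈ R, z = y * x * y⁻¹} ∣ r ^ (Nat.card N).factorization r := by
    rw [← hRc, ← h2]
    exact Dvd.intro _ rfl
  obtain ⟨i, hi, hi2⟩ := (Nat.dvd_prime_pow hr).1 h3
  have hi0 : i = 0 := by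
    by_contra hne
    refine hnum i (Nat.one_le_iff_ne_zero.2 hne) ((pow_dvd_pow r hi).trans (Nat.ordProj_dvd _ _)) ?_
    rw [hi2] at h1
    exact (Nat.modEq_iff_dvd' (Nat.one_le_pow _ _ hr.pos)).1 h1.symm
  rw [hi2, hi0, pow_zero, one_mul] at h2
  have h4 : R ⊓ Subgroup.centralizer {x} = R := Subgroup.eq_of_le_of_card_ge inf_le_left h2.ge
  intro y hy
  rw [← h4] at hy
  exact (Subgroup.mem_centralizer_singleton_iff.1 hy.2).symm

theorem cent_of_num {p : ℕ} (hp : p.Prime) (N : Subgroup G) [hN : N.Normal] {x : G} (hx : orderOf x = p)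
    (hpN : ¬ p ∣ Nat.card N)
    (hnum : ∀ r, r.Prime → ∀ i, 1 ≤ i → r ^ i ∣ Nat.card N → ¬ p ∣ r ^ i - 1) :
    ∀ y ∈ N, Commute x y := by
  have h1 : Nat.card N ∣ Nat.card (N ⊓ Subgroup.centralizer {x} : Subgroup G) := by
    rw [← Nat.factorization_prime_le_iff_dvd Nat.card_pos.ne' Nat.card_pos.ne']
    intro r hr
    obtain ⟨R, hRN, hRc, hRx⟩ := cent_sylow hp N hx hpN hr (hnum r hr)
    rw [← hr.pow_dvd_iff_le_factorization Nat.card_pos.ne', ← hRc]
    apply Subgroup.card_dvd_of_le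
    exact le_inf hRN (fun y hy => Subgroup.mem_centralizer_singleton_iff.2 (hRx y hy).symm)
  have h2 : N ⊓ Subgroup.centralizer {x} = N :=
    Subgroup.eq_of_le_of_card_ge inf_le_left (Nat.le_of_dvd Nat.card_pos h1)
  intro y hy
  rw [← h2] at hy
  exact (Subgroup.mem_centralizer_singleton_iff.1 hy.2).symm

/-- a maximal normal `p'`-subgroup -/
theorem exists_max (G : Type u) [Group G] [Finite G] (p : ℕ) (hp : p.Prime) :
    ∃ N : Subgroup G, N.Normal ∧ ¬ p ∣ Nat.card N ∧ ∀ M : Subgroup G, M.Normal → N ≤ M → ¬ p ∣ Nat.card M → M = N := by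
  classical
  let S : Set (Subgroup G) := {N | N.Normal ∧ ¬ p ∣ Nat.card N}
  have hS : S.Nonempty := ⟨⊥, inferInstance, by
    rw [Subgroup.card_bot]
    exact fun h => hp.one_lt.ne' (Nat.dvd_one.1 h)⟩
  obtain ⟨N, hN⟩ := (Set.toFinite S).exists_maximal hS
  refine ⟨N, hN.prop.1, hN.prop.2, ?_⟩
  intro M hM hNM hpM
  exact le_antisymm (hN.le_of_ge ⟨hM, hpM⟩ hNM) hNM

theorem card_comap_mk (N : Subgroup G) [N.Normal] (M : Subgroup (G ⧸ N)) :
    Nat.card (M.comap (QuotientGroup.mk' N)) = Nat.card M * Nat.card N := by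
  have h1 := (M.comap (QuotientGroup.mk' N)).card_mul_index
  have h2 := M.card_mul_index
  have h3 := Subgroup.card_eq_card_quotient_mul_card_subgroup N
  rw [Subgroup.index_comap_of_surjective M (QuotientGroup.mk'_surjective N), h3, ← h2] at h1
  have h4 : 0 < M.index := Nat.pos_of_ne_zero Subgroup.index_ne_zero_of_finite
  apply Nat.eq_of_mul_eq_mul_right h4
  rw [h1]
  ring

/-- the simple chief factor of order divisible by `p` -/
theorem exists_chief {p : ℕ} (hp : p.Prime) (h1 : p ∣ Nat.card G) (h2 : ¬ p ^ 2 ∣ Nat.card G) :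
    ∃ N : Subgroup G, ∃ _ : N.Normal, ¬ p ∣ Nat.card N ∧
      (∀ M : Subgroup (G ⧸ N), M.Normal → ¬ p ∣ Nat.card M → M = ⊥) ∧
      ∃ V : Subgroup (G ⧸ N), V.Normal ∧ IsSimpleGroup V ∧ p ∣ Nat.card V := by
  obtain ⟨N, hN, hpN, hmax⟩ := exists_max G p hp
  have hno : ∀ M : Subgroup (G ⧸ N), M.Normal → ¬ p ∣ Nat.card M → M = ⊥ := by
    intro M hM hpM
    have hcard := card_comap_mk N M
    have h3 : M.comap (QuotientGroup.mk' N) = N := by
      refine hmax _ inferInstance ?_ ?_
      · intro y hy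
        rw [Subgroup.mem_comap, QuotientGroup.mk'_apply, (QuotientGroup.eq_one_iff y).2 hy]
        exact M.one_mem
      · rw [hcard]
        intro h
        rcases hp.dvd_mul.1 h with h4 | h4
        · exact hpM h4
        · exact hpN h4
    rw [eq_bot_iff]
    intro y hy
    obtain ⟨g, rfl⟩ := QuotientGroup.mk'_surjective N y
    have h4 : g ∈ M.comap (QuotientGroup.mk' N) := hy
    rw [h3] at h4
    exact (QuotientGroup.eq_one_iff g).2 h4
  refine ⟨N, hN, hpN, hno, ?_⟩
  have hcardG := Subgroup.card_eq_card_quotient_mul_card_subgroup N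
  have hpq : p ∣ Nat.card (G ⧸ N) := by
    rw [hcardG] at h1
    exact (hp.dvd_mul.1 h1).resolve_right hpN
  have hnt : Nontrivial (G ⧸ N) := by
    apply (Finite.one_lt_card_iff_nontrivial).1
    exact lt_of_lt_of_le hp.one_lt (Nat.le_of_dvd Nat.card_pos hpq)
  obtain ⟨V, hV, hVbot, hmin⟩ := Lib.SubnormalJoin.exists_minimal_normal (G ⧸ N)
  have hpV : p ∣ Nat.card V := by
    by_contra h
    exact hVbot (hno V hV h)
  refine ⟨V, hV, ?_, hpV⟩
  obtain ⟨T, m, hTV, hTs, hm, ⟨e⟩⟩ := Lib.MinNormal.exists_mulEquiv_pi V hVbot hmin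
  have hVc : Nat.card V = Nat.card T ^ m := by
    rw [Nat.card_congr e.toEquiv, Nat.card_fun, Nat.card_eq_fintype_card (α := Fin m), Fintype.card_fin]
  have hpT : p ∣ Nat.card T := by
    rw [hVc] at hpV
    exact hp.dvd_of_dvd_pow hpV
  have hm1 : m = 1 := by
    by_contra hne
    apply h2
    have h3 : p ^ 2 ∣ Nat.card T ^ m := (pow_dvd_pow p (by omega : 2 ≤ m)).trans (pow_dvd_pow_of_dvd hpT m)
    rw [← hVc] at h3
    rw [hcardG]
    exact h3.trans ((Subgroup.card_subgroup_dvd_card V).trans (Dvd.intro _ rfl))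
  subst hm1
  have e2 : V ≃* T := e.trans (MulEquiv.piUnique (fun _ : Fin 1 => T))
  have := hTs
  exact e2.isSimpleGroup

/-- if the `p`-chief factor `V` is cyclic of order `p` and the numerical condition holds for `N`, then `G` has a
normal subgroup of order `p` -/
theorem normal_of_card {p : ℕ} (hp : p.Prime) (N : Subgroup G) [hN : N.Normal] (hpN : ¬ p ∣ Nat.card N)
    (hnum : ∀ r, r.Prime → ∀ i, 1 ≤ i → r ^ i ∣ Nat.card N → ¬ p ∣ r ^ i - 1)
    (V : Subgroup (G ⧸ N)) [hV : V.Normal] (hVp : Nat.card V = p) :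
    ∃ P : Subgroup G, P.Normal ∧ Nat.card P = p := by
  classical
  have hpF : Fact p.Prime := ⟨hp⟩
  let M := V.comap (QuotientGroup.mk' N)
  have hM : M.Normal := hV.comap _
  have hMc : Nat.card M = p * Nat.card N := by rw [card_comap_mk N V, hVp]
  obtain ⟨x, hx⟩ := exists_prime_orderOf_dvd_card' (G := M) p (hMc ▸ Dvd.intro _ rfl)
  have hx' : orderOf x.1 = p := by rw [Subgroup.orderOf_coe, hx]
  have hcent := cent_of_num hp N hx' hpN hnum
  have hxN : x.1 ∉ N := by
    intro h
    apply hpN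
    have h1 : orderOf (⟨x.1, h⟩ : N) = p := by rw [← Subgroup.orderOf_coe]; exact hx'
    rw [← h1]
    exact orderOf_dvd_natCard _
  -- the image of `x` generates `V`
  have hgen : ∀ y ∈ M, ∃ k : ℤ, y * (x.1 ^ k)⁻¹ ∈ N := by
    intro y hy
    let vx : V := ⟨QuotientGroup.mk' N x.1, x.2⟩
    have hvx : vx ≠ 1 := by
      intro h
      apply hxN
      have h1 : QuotientGroup.mk' N x.1 = 1 := congrArg Subtype.val h
      exact (QuotientGroup.eq_one_iff x.1).1 h1
    have htop := zpowers_eq_top_of_prime_card hVp hvx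
    have hy' : (⟨QuotientGroup.mk' N y, hy⟩ : V) ∈ Subgroup.zpowers vx := by rw [htop]; trivial
    obtain ⟨k, hk⟩ := Subgroup.mem_zpowers_iff.1 hy'
    refine ⟨k, ?_⟩
    have h1 : QuotientGroup.mk' N (x.1 ^ k) = QuotientGroup.mk' N y := by
      rw [map_zpow]
      exact congrArg Subtype.val hk
    rw [← (QuotientGroup.eq_one_iff (N := N) _)]
    show QuotientGroup.mk' N (y * (x.1 ^ k)⁻¹) = 1
    rw [map_mul, map_inv, h1, mul_inv_cancel]
  refine ⟨Subgroup.zpowers x.1, ⟨?_⟩, by rw [Nat.card_zpowers, hx']⟩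
  intro y hy g
  have hyM : g * y * g⁻¹ ∈ M := hM.conj_mem y ((Subgroup.zpowers_le.2 x.2) hy) g
  obtain ⟨k, hk⟩ := hgen _ hyM
  have hcomm : Commute (x.1 ^ k) (g * y * g⁻¹ * (x.1 ^ k)⁻¹) := ((hcent _ hk).zpow_left k)
  have h1 : g * y * g⁻¹ = (g * y * g⁻¹ * (x.1 ^ k)⁻¹) * x.1 ^ k := by group
  have hyp : y ^ p = 1 := by
    obtain ⟨m, rfl⟩ := Subgroup.mem_zpowers_iff.1 hy
    rw [← zpow_natCast, ← zpow_mul, mul_comm, zpow_mul, zpow_natCast, ← hx', pow_orderOf_eq_one, one_zpow]
  have hxk : (x.1 ^ k) ^ p = 1 := by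
    rw [← zpow_natCast, ← zpow_mul, mul_comm, zpow_mul, zpow_natCast, ← hx', pow_orderOf_eq_one, one_zpow]
  have h2 : (g * y * g⁻¹ * (x.1 ^ k)⁻¹) ^ p = 1 := by
    have h3 : (g * y * g⁻¹) ^ p = 1 := by rw [conj_pow, hyp, mul_one, mul_inv_cancel]
    rw [h1, hcomm.symm.mul_pow, hxk, mul_one] at h3
    exact h3
  have h4 : (⟨_, hk⟩ : N) = 1 := by
    have h6 : (⟨_, hk⟩ : N) ^ p = 1 := Subtype.ext h2
    have h7 := orderOf_dvd_of_pow_eq_one h6
    rcases (Nat.dvd_prime hp).1 h7 with h8 | h8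
    · exact orderOf_eq_one_iff.1 h8
    · exfalso
      apply hpN
      rw [← h8]
      exact orderOf_dvd_natCard _
  have h5 : g * y * g⁻¹ * (x.1 ^ k)⁻¹ = 1 := congrArg Subtype.val h4
  rw [mul_inv_eq_one] at h5
  rw [h5]
  exact Subgroup.zpow_mem_zpowers _ _

/-- **dichotomy**: if `p` divides `|G|` exactly once and no prime power `r ^ i` dividing `|G|`, `r ≠ p`, is `1` modulo
`p`, then `G` has a normal subgroup of order `p`, or a quotient `G ⧸ N` by a normal `p'`-subgroup `N` having no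
nontrivial normal `p'`-subgroup and a nonabelian simple normal subgroup `V` of order divisible by `p` -/
theorem dichotomy {p : ℕ} (hp : p.Prime) (h1 : p ∣ Nat.card G) (h2 : ¬ p ^ 2 ∣ Nat.card G)
    (hnum : ∀ r, r.Prime → r ≠ p → ∀ i, 1 ≤ i → r ^ i ∣ Nat.card G → ¬ p ∣ r ^ i - 1) :
    (∃ P : Subgroup G, P.Normal ∧ Nat.card P = p) ∨
    ∃ N : Subgroup G, ∃ _ : N.Normal, ¬ p ∣ Nat.card N ∧
      (∀ M : Subgroup (G ⧸ N), M.Normal → ¬ p ∣ Nat.card M → M = ⊥) ∧
      ∃ V : Subgroup (G ⧸ N), V.Normal ∧ IsSimpleGroup V ∧ p ∣ Nat.card V ∧ ¬ IsMulCommutative V := by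
  obtain ⟨N, hN, hpN, hno, V, hV, hVs, hpV⟩ := exists_chief hp h1 h2
  by_cases hc : IsMulCommutative V
  · left
    have hVp : Nat.card V = p := by
      let _ : CommGroup V := { (inferInstance : Group V) with mul_comm := fun a b => hc.is_comm.comm a b }
      have h3 : (Nat.card V).Prime := IsSimpleGroup.prime_card
      exact ((Nat.prime_dvd_prime_iff_eq hp h3).1 hpV).symm
    refine normal_of_card hp N hpN ?_ V hVp
    intro r hr i hi hri
    refine hnum r hr ?_ i hi (hri.trans (Subgroup.card_subgroup_dvd_card N))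
    rintro rfl
    exact hpN ((dvd_pow_self r (by omega)).trans hri)
  · right
    exact ⟨N, hN, hpN, hno, V, hV, hVs, hpV, hc⟩

/-- a subgroup of a quotient of `G` has order dividing `|G|`; if the orders are equal then `G` is isomorphic to it -/
theorem card_dvd_quot (N : Subgroup G) [N.Normal] (V : Subgroup (G ⧸ N)) : Nat.card V * Nat.card N ∣ Nat.card G := by
  rw [← card_comap_mk N V]
  exact Subgroup.card_subgroup_dvd_card _

theorem equiv_of_card (N : Subgroup G) [N.Normal] (V : Subgroup (G ⧸ N)) (h : Nat.card V = Nat.card G) :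
    Nonempty (G ≃* V) := by
  have h1 := card_comap_mk N V
  have h2 : Nat.card (V.comap (QuotientGroup.mk' N)) ≤ Nat.card G := Nat.card_le_card_of_injective _ Subtype.val_injective
  have h3 : 0 < Nat.card G := Nat.card_pos
  have h4 : Nat.card N = 1 := by
    rw [h1, h] at h2
    have h5 : 0 < Nat.card N := Nat.card_pos
    nlinarith
  have hN : N = ⊥ := Subgroup.eq_bot_of_card_eq N h4
  have hV : V = ⊤ := by
    apply Subgroup.eq_top_of_card_eq
    rw [h]
    have h5 := Subgroup.card_eq_card_quotient_mul_card_subgroup N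
    rw [h4, mul_one] at h5
    exact h5
  subst hV
  subst hN
  exact ⟨(QuotientGroup.quotientBot (G := G)).symm.trans Subgroup.topEquiv.symm⟩

end Cfsg.Agent.H418.ChiefP
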