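import Mathlib
import Cfsg.Agent.H418.ChiefP
import Cfsg.Agent.OrdDiv.Main

/-!
# Recognition by the order and the degree of one prime in the prime graph (helper418)

`G` finite, `p ∥ |G|`, `N` a normal `p'`-subgroup, `V` normal in `G ⧸ N` with `p ∣ |V|`.

* `adj` : if `v_s |V| + v_s (p - 1) < v_s |G|` and `p ∤ s ^ i - 1` for `1 ≤ i`, `i + v_s |V| ≤ v_s |G|`, then `G` has an
  element of order `p * s`.
* `cntS p o l` : the number of the primes `s` for which this applies (`l` the factorization of `|G|`, `o = |V|`).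
* `recog` : the order of `G` and an upper bound of the degree of `p` in the prime graph recognise `G` if the
  numerical test of all simple groups of order dividing `|G|` leaves only one name.
-/

set_option autoImplicit false

namespace Cfsg.Agent.H418.Rule

open Cfsg.Agent

universe u

theorem exists_order_of_quot {G : Type u} [Group G] [Finite G] (N : Subgroup G) [N.Normal] (z : G ⧸ N) :
    ∃ w : G, orderOf w = orderOf z := by
  obtain ⟨g, rfl⟩ := QuotientGroup.mk'_surjective N z
  have h1 : orderOf (QuotientGroup.mk' N g) ∣ orderOf g := orderOf_map_dvd _ g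
  have h2 : 0 < orderOf g := orderOf_pos g
  obtain ⟨k, hk⟩ := h1
  refine ⟨g ^ k, ?_⟩
  have hk0 : k ≠ 0 := by
    rintro rfl
    rw [mul_zero] at hk
    omega
  rw [orderOf_pow_of_dvd hk0 (hk ▸ Dvd.intro_left _ rfl), hk, Nat.mul_div_cancel _ (Nat.pos_of_ne_zero hk0)]

theorem order_mul {G : Type u} [Group G] {p s : ℕ} (hp : p.Prime) (hs : s.Prime) (hne : s ≠ p) {x y : G}
    (hx : orderOf x = p) (hy : orderOf y = s) (hxy : Commute x y) : orderOf (x * y) = p * s := by
  rw [hxy.orderOf_mul_eq_mul_orderOf_of_coprime, hx, hy]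
  rw [hx, hy]
  exact (Nat.coprime_primes hp hs).2 (Ne.symm hne)

/-- the Frattini argument in the quotient -/
theorem adj_quot {H : Type u} [Group H] [Finite H] {p s : ℕ} (hp : p.Prime) (hs : s.Prime) (hne : s ≠ p)
    (V : Subgroup H) [V.Normal] (hpV : p ∣ Nat.card V) (hp2 : ¬ p ^ 2 ∣ Nat.card H)
    (hb : (Nat.card V).factorization s + (p - 1).factorization s < (Nat.card H).factorization s) :
    ∃ z : H, orderOf z = p * s := by
  classical
  have hpF : Fact p.Prime := ⟨hp⟩
  have hsF : Fact s.Prime := ⟨hs⟩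
  have hV0 : Nat.card V ≠ 0 := Nat.card_pos.ne'
  have hH0 : Nat.card H ≠ 0 := Nat.card_pos.ne'
  have P : Sylow p V := default
  have hPc : Nat.card P = p := by
    rw [Sylow.card_eq_multiplicity]
    have h1 : (Nat.card V).factorization p = 1 := by
      have h2 : 1 ≤ (Nat.card V).factorization p := (hp.dvd_iff_one_le_factorization hV0).1 hpV
      have h3 : ¬ 2 ≤ (Nat.card V).factorization p := by
        rw [← hp.pow_dvd_iff_le_factorization hV0]
        exact fun h => hp2 (h.trans (Subgroup.card_subgroup_dvd_card V))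
      omega
    rw [h1, pow_one]
  let Q : Subgroup H := (P : Subgroup V).map V.subtype
  have hQc : Nat.card Q = p := by
    rw [← hPc]
    exact (Nat.card_congr ((P : Subgroup V).equivMapOfInjective V.subtype V.subtype_injective).toEquiv).symm
  let K : Subgroup H := Subgroup.normalizer (Q : Set H)
  have hK : K ⊔ V = ⊤ := Sylow.normalizer_sup_eq_top P
  have h1 : V.index ∣ Nat.card K := by
    have h2 := Subgroup.relIndex_sup_right K V
    rw [hK, Subgroup.relIndex_top_right] at h2
    rw [h2]
    exact Subgroup.index_dvd_card _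
  have h3 : (Subgroup.centralizer (Q : Set H)).relIndex K ∣ p - 1 := by
    have key := Subgroup.card_dvd_of_injective _ (QuotientGroup.kerLift_injective Q.normalizerMonoidHom)
    rw [Subgroup.normalizerMonoidHom_ker, ← Subgroup.index, ← Subgroup.relIndex] at key
    have hcyc : IsCyclic Q := isCyclic_of_prime_card hQc
    rw [IsCyclic.card_mulAut, hQc, Nat.totient_prime hp] at key
    exact key
  have h4 := ((Subgroup.centralizer (Q : Set H)).subgroupOf K).card_mul_index
  have h5 : s ∣ Nat.card ((Subgroup.centralizer (Q : Set H)).subgroupOf K) := by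
    rw [hs.dvd_iff_one_le_factorization Nat.card_pos.ne']
    have h6 : V.index.factorization s ≤ (Nat.card K).factorization s :=
      (Nat.factorization_le_iff_dvd Subgroup.index_ne_zero_of_finite Nat.card_pos.ne').2 h1 s
    have h7 : ((Subgroup.centralizer (Q : Set H)).relIndex K).factorization s ≤ (p - 1).factorization s :=
      (Nat.factorization_le_iff_dvd Subgroup.index_ne_zero_of_finite (by have := hp.two_le; omega)).2 h3 s
    have h8 : (Nat.card V).factorization s + V.index.factorization s = (Nat.card H).factorization s := by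
      rw [← V.card_mul_index, Nat.factorization_mul hV0 Subgroup.index_ne_zero_of_finite]
      rfl
    have h9 : (Nat.card K).factorization s =
        (Nat.card ((Subgroup.centralizer (Q : Set H)).subgroupOf K)).factorization s +
          ((Subgroup.centralizer (Q : Set H)).relIndex K).factorization s := by
      rw [← h4, Nat.factorization_mul Nat.card_pos.ne' Subgroup.index_ne_zero_of_finite]
      rfl
    omega
  obtain ⟨y, hy⟩ := exists_prime_orderOf_dvd_card' (G := (Subgroup.centralizer (Q : Set H)).subgroupOf K) s h5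
  obtain ⟨x, hx⟩ := exists_prime_orderOf_dvd_card' (G := Q) p (hQc ▸ dvd_rfl)
  refine ⟨x.1 * y.1.1, order_mul hp hs hne (by rw [Subgroup.orderOf_coe, hx]) ?_ ?_⟩
  · rw [Subgroup.orderOf_coe, Subgroup.orderOf_coe, hy]
  · have h10 : y.1.1 ∈ Subgroup.centralizer (Q : Set H) := y.2
    exact (Subgroup.mem_centralizer_iff.1 h10 x.1 x.2)

/-- **the rule** -/
theorem adj {G : Type u} [Group G] [Finite G] {p s : ℕ} (hp : p.Prime) (hs : s.Prime) (hne : s ≠ p)
    (hpG : ¬ p ^ 2 ∣ Nat.card G) (N : Subgroup G) [N.Normal] (hpN : ¬ p ∣ Nat.card N)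
    (V : Subgroup (G ⧸ N)) [V.Normal] (hpV : p ∣ Nat.card V)
    (hb : (Nat.card V).factorization s + (p - 1).factorization s < (Nat.card G).factorization s)
    (hnum : ∀ i, 1 ≤ i → i + (Nat.card V).factorization s ≤ (Nat.card G).factorization s → ¬ p ∣ s ^ i - 1) :
    ∃ z : G, orderOf z = p * s := by
  classical
  have hpF : Fact p.Prime := ⟨hp⟩
  have hsF : Fact s.Prime := ⟨hs⟩
  have hcard := Subgroup.card_eq_card_quotient_mul_card_subgroup N
  have hfac : (Nat.card G).factorization s = (Nat.card (G ⧸ N)).factorization s + (Nat.card N).factorization s := by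
    rw [hcard, Nat.factorization_mul Nat.card_pos.ne' Nat.card_pos.ne']
    rfl
  by_cases hsN : s ∣ Nat.card N
  · have hpQ : p ∣ Nat.card G := by
      rw [hcard]
      exact (hpV.trans (Subgroup.card_subgroup_dvd_card V)).mul_right _
    obtain ⟨x, hx⟩ := exists_prime_orderOf_dvd_card' (G := G) p hpQ
    have hVs : (Nat.card V).factorization s ≤ (Nat.card (G ⧸ N)).factorization s :=
      (Nat.factorization_le_iff_dvd Nat.card_pos.ne' Nat.card_pos.ne').2 (Subgroup.card_subgroup_dvd_card V) s
    obtain ⟨R, hRN, hRc, hRx⟩ := ChiefP.cent_sylow hp N hx hpN hs (by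
      intro i hi hiN
      refine hnum i hi ?_
      have h1 := (hs.pow_dvd_iff_le_factorization Nat.card_pos.ne').1 hiN
      omega)
    have h1 : 1 ≤ (Nat.card N).factorization s := (hs.dvd_iff_one_le_factorization Nat.card_pos.ne').1 hsN
    obtain ⟨y, hy⟩ := exists_prime_orderOf_dvd_card' (G := R) s (by
      rw [hRc]
      exact dvd_pow_self s (by omega))
    exact ⟨x * y.1, order_mul hp hs hne hx (by rw [Subgroup.orderOf_coe, hy]) (hRx y.1 y.2)⟩
  · have h1 : (Nat.card N).factorization s = 0 := Nat.factorization_eq_zero_of_not_dvd hsN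
    obtain ⟨z, hz⟩ := adj_quot hp hs hne V hpV
      (fun h => hpG (h.trans (by rw [hcard]; exact Dvd.intro _ rfl))) (by omega)
    obtain ⟨w, hw⟩ := exists_order_of_quot N z
    exact ⟨w, hw.trans hz⟩

/-! ### the numerical test -/

/-- `min k (v_s n)` -/
def vb (s n k : ℕ) : ℕ := ((List.range k).filter fun i => n % s ^ (i + 1) == 0).length

theorem vb_eq {s n : ℕ} (hs : s.Prime) (hn : n ≠ 0) (k : ℕ) : vb s n k = min k (n.factorization s) := by
  unfold vb
  induction k with
  | zero => simp
  | succ k ih =>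
    rw [List.range_succ, List.filter_append, List.length_append, ih]
    by_cases h : k + 1 ≤ n.factorization s
    · have h1 : n % s ^ (k + 1) = 0 := Nat.mod_eq_zero_of_dvd ((hs.pow_dvd_iff_le_factorization hn).2 h)
      simp only [List.filter_cons, List.filter_nil, h1, beq_self_eq_true, if_true, List.length_singleton]
      omega
    · have h1 : n % s ^ (k + 1) ≠ 0 := fun h0 =>
        h ((hs.pow_dvd_iff_le_factorization hn).1 (Nat.dvd_of_mod_eq_zero h0))
      simp only [List.filter_cons, List.filter_nil, beq_iff_eq, h1, if_false, List.length_nil]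
      omega

/-- the rule applies for the prime `x.1` -/
def okS (p o : ℕ) (x : ℕ × ℕ) : Bool :=
  !(Nat.beq x.1 p) && (Nat.blt (vb x.1 (p - 1) x.2) (x.2 - vb x.1 o x.2) &&
    (List.range (x.2 - vb x.1 o x.2)).all fun i => (x.1 ^ (i + 1) - 1) % p != 0)

/-- the number of the primes for which the rule applies -/
def cntS (p o : ℕ) (l : List (ℕ × ℕ)) : ℕ := (l.filter (okS p o)).length

theorem valid_fac {l : List (ℕ × ℕ)} {N : ℕ} (hv : OrdDiv.valid l N = true) {x : ℕ × ℕ} (hx : x ∈ l) :
    N.factorization x.1 = x.2 := by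
  have hN := OrdDiv.valid_pos hv
  have h1 := OrdDiv.valid_prime hv x hx
  have h2 := OrdDiv.valid_exact hv x hx
  have h3 : x.1 ^ x.2 ∣ N := by
    rw [← OrdDiv.valid_prod hv]
    unfold OrdDiv.prodl
    exact List.dvd_prod (List.mem_map.2 ⟨x, hx, rfl⟩)
  rw [h1.pow_dvd_iff_le_factorization hN.ne'] at h2 h3
  omega

/-- the primes adjacent to `p` in the prime graph -/
def nb (G : Type u) [Group G] (p : ℕ) : Set ℕ :=
  {s : ℕ | s.Prime ∧ s ∣ Nat.card G ∧ s ≠ p ∧ ∃ x : G, orderOf x = p * s}

theorem nb_finite (G : Type u) [Group G] [Finite G] (p : ℕ) : (nb G p).Finite := by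
  refine (Finset.finite_toSet (Nat.divisors (Nat.card G))).subset ?_
  intro s hs
  exact Finset.mem_coe.2 (Nat.mem_divisors.2 ⟨hs.2.1, Nat.card_pos.ne'⟩)

/-- **the rule, counting** -/
theorem cntS_le {G : Type u} [Group G] [Finite G] {l : List (ℕ × ℕ)} {n : ℕ} (hv : OrdDiv.valid l n = true)
    (hnd : (l.map Prod.fst).Nodup) (hG : Nat.card G = n) {p : ℕ} (hp : p.Prime)
    (hpG : ¬ p ^ 2 ∣ n) (N : Subgroup G) [N.Normal] (hpN : ¬ p ∣ Nat.card N)
    (V : Subgroup (G ⧸ N)) [V.Normal] (hpV : p ∣ Nat.card V) : cntS p (Nat.card V) l ≤ (nb G p).ncard := by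
  classical
  unfold cntS
  have h1 : (l.filter (okS p (Nat.card V))).length =
      (((l.filter (okS p (Nat.card V))).map Prod.fst).toFinset).card := by
    rw [List.toFinset_card_of_nodup, List.length_map]
    exact hnd.sublist (List.filter_sublist.map _)
  rw [h1, ← Set.ncard_coe_finset]
  apply Set.ncard_le_ncard _ (nb_finite G p)
  intro s hs
  rw [Finset.mem_coe, List.mem_toFinset, List.mem_map] at hs
  obtain ⟨x, hx, rfl⟩ := hs
  rw [List.mem_filter] at hx
  obtain ⟨hxl, hx2⟩ := hx
  have hxp := OrdDiv.valid_prime hv x hxl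
  have hfac := valid_fac hv hxl
  unfold okS at hx2
  rw [Bool.and_eq_true, Bool.and_eq_true, Bool.not_eq_true', Nat.blt_eq, List.all_eq_true] at hx2
  obtain ⟨hne, hlt, hall⟩ := hx2
  have hne' : x.1 ≠ p := by
    intro h
    rw [h] at hne
    simp at hne
  have hVd : Nat.card V ∣ n := by
    rw [← hG]
    exact (Dvd.intro _ rfl : Nat.card V ∣ Nat.card V * Nat.card N).trans (ChiefP.card_dvd_quot N V)
  have hn0 : n ≠ 0 := (OrdDiv.valid_pos hv).ne'
  have hVf : (Nat.card V).factorization x.1 ≤ x.2 := by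
    rw [← hfac]
    exact (Nat.factorization_le_iff_dvd Nat.card_pos.ne' hn0).2 hVd x.1
  rw [vb_eq hxp Nat.card_pos.ne', vb_eq hxp (by have := hp.two_le; omega), min_eq_right hVf] at hlt
  rw [vb_eq hxp Nat.card_pos.ne', min_eq_right hVf] at hall
  refine ⟨hxp, ?_, hne', ?_⟩
  · rw [hG]
    rw [← Nat.pos_iff_ne_zero] at hn0
    apply (hxp.dvd_iff_one_le_factorization hn0.ne').2
    omega
  · refine adj hp hxp hne' (by rw [hG]; exact hpG) N hpN V hpV ?_ ?_
    · rw [hG, hfac]
      rcases Nat.lt_or_ge (x.2) ((p - 1).factorization x.1) with h | h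
      · rw [min_eq_left h.le] at hlt
        omega
      · rw [min_eq_right h] at hlt
        omega
    · intro i hi hile
      rw [hG, hfac] at hile
      have h2 := hall (i - 1) (List.mem_range.2 (by omega))
      rw [Nat.sub_add_cancel hi] at h2
      intro hd
      rw [Nat.mod_eq_zero_of_dvd hd] at h2
      exact absurd h2 (by decide)

/-- **recognition** : the order and the degree of `p` -/
theorem recog (T : OrdDiv.OrderTable.{u}) (hS : ∀ (S : Type u) [Group S] [Finite S] [IsSimpleGroup S], IsKnownSimple' S)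
    {l : List (ℕ × ℕ)} {n p d : ℕ} {g : OrdDiv.Grp} (hv : OrdDiv.valid l n = true)
    (hnd : (l.map Prod.fst).Nodup) (hp : (p, 1) ∈ l) (hcyc : d < cntS p p l)
    (hfil : (OrdDiv.cands l n).filter (fun g => (OrdDiv.ordN g % p == 0) && Nat.ble (cntS p (OrdDiv.ordN g) l) d) = [g])
    (hg : OrdDiv.ordN g = n) {G : Type u} [Group G] [Finite G] (hG : Nat.card G = n)
    (hd : (nb G p).ncard ≤ d) : ∃ (V : Type u) (_ : Group V), OrdDiv.Real g V ∧ Nonempty (G ≃* V) := by
  classical
  have hpp : p.Prime := OrdDiv.valid_prime hv _ hp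
  have hpG : ¬ p ^ 2 ∣ n := OrdDiv.valid_exact hv _ hp
  have hpn : p ∣ n := by
    have h1 := valid_fac hv hp
    exact (hpp.dvd_iff_one_le_factorization (OrdDiv.valid_pos hv).ne').2 h1.ge
  obtain ⟨N, hN, hpN, -, V, hV, hVs, hpV⟩ := ChiefP.exists_chief hpp (G := G) (hG ▸ hpn) (hG ▸ hpG)
  have hcnt := cntS_le hv hnd hG hpp hpG N hpN V hpV
  by_cases hc : ∀ a b : V, a * b = b * a
  · exfalso
    have hVp : Nat.card V = p := by
      let _ : CommGroup V := { (inferInstance : Group V) with mul_comm := hc }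
      have h3 : (Nat.card V).Prime := IsSimpleGroup.prime_card
      exact ((Nat.prime_dvd_prime_iff_eq hpp h3).1 hpV).symm
    rw [hVp] at hcnt
    exact absurd (hcnt.trans hd) (Nat.not_le.2 hcyc)
  · have hVd : Nat.card V ∣ n := by
      rw [← hG]
      exact (Dvd.intro _ rfl : Nat.card V ∣ Nat.card V * Nat.card N).trans (ChiefP.card_dvd_quot N V)
    obtain ⟨g', hg1, hg2, hg3⟩ := OrdDiv.exists_good T (hS V) hc hv hVd
    have hmem : g' ∈ (OrdDiv.cands l n).filter
        (fun g => (OrdDiv.ordN g % p == 0) && Nat.ble (cntS p (OrdDiv.ordN g) l) d) := by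
      refine List.mem_filter.2 ⟨hg1, ?_⟩
      rw [Bool.and_eq_true]
      refine ⟨?_, ?_⟩
      · rw [← hg3]
        simpa using Nat.mod_eq_zero_of_dvd hpV
      · rw [← hg3, Nat.ble_eq]
        omega
    rw [hfil, List.mem_singleton] at hmem
    subst hmem
    obtain ⟨e⟩ := ChiefP.equiv_of_card N V (by rw [hg3, hg, hG])
    exact ⟨V, inferInstance, hg2, ⟨e⟩⟩

end Cfsg.Agent.H418.Rule
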