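import Cfsg.Agent.H418.ThBeta2

/-!
"Theorem beta" on the model of the Sylow 3-subgroup of the Thompson group.
-/

set_option autoImplicit false
set_option linter.style.longLine false

namespace Cfsg.Agent.H418.ThB

open Subgroup Cfsg.Agent.H776.ThS

section
variable {Q : Subgroup P} {A : Set (P → P)} {A1 : Set (P → P)}

/-- step 2 -/
theorem step2 (h : Ctx Q A) (hSE : SE Q A Z2) (hQ : Q ≤ E1) (hW : Z2 ≤ Q)
    (hmov : ∃ a ∈ A, ∃ w ∈ Z2, a w ∉ Z2) (hk : ∃ k ∈ A, (∀ w ∈ Z2, k w ∈ Z2) ∧ k u10 ∉ Z1)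
    (h1 : Ctx E1 A1) (h1m : ∃ α ∈ A1, α u10 ∉ Z1)
    (hfn : ∀ α ∈ A1, ∀ N : Subgroup P, (∀ n ∈ N, ∀ x ∈ Q, ∃ x' ∈ Q, n * α x * n⁻¹ = α x') →
      Nat.card N ≤ Nat.card (normalizer (Q : Set P)))
    {a : P → P} (ha : a ∈ A) {w : P} (hw : w ∈ Z2) (hN : a w ∉ N5) :
    ∀ z ∈ Z2, ∃ n ∈ N5, n * a w * n⁻¹ = a w * z := by
  have haQ := h.maps a ha w (hW hw)
  have hvE : a w ∈ E1 := hQ haQ
  have hvc : ∀ q ∈ Q, a w * q = q * a w := fun q hq => member_central h hQ hW ha hw hq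
  intro z hz
  by_contra hcc
  have hc : ∀ n ∈ N5, n * a w * n⁻¹ ≠ a w * z := fun n hn hh => hcc ⟨n, hn, hh⟩
  clear hcc
  -- an element of `N5` not commuting with `v`
  obtain ⟨y, hyN, hyv⟩ : ∃ y ∈ N5, y * a w ≠ a w * y := by
    by_contra hh
    apply hN
    apply mem_N5_of_comm hvE
    intro n hn
    by_contra h2
    exact hh ⟨n, hn, h2⟩
  have hyE := N5_le_E1 hyN
  have hr01 : dd y (a w) ≠ 1 := by
    intro hh
    apply hyv
    rw [N5_E1 hyN hvE, hh, mul_one]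
  have hr0Z := dd_mem y (a w)
  have hI : ∀ n ∈ N5, ∃ j : ℕ, dd n (a w) = dd y (a w) ^ j := by
    intro n hn
    rcases Z2_span hr0Z (dd_mem n (a w)) hr01 with h2 | h2
    · exact h2
    · exfalso
      obtain ⟨i, j, hij⟩ := h2 z hz
      have hm : y ^ i * n ^ j ∈ N5 := mul_mem (pow_mem hyN i) (pow_mem hn j)
      apply hc _ hm
      rw [conj_N5 hm hvE, dd_mul (pow_mem hn j), dd_pow hyN, dd_pow hn, ← hij]
  generalize hr0 : dd y (a w) = r0 at hr01 hr0Z hI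
  obtain ⟨k1, hk1, hk2⟩ := h1m
  obtain ⟨α, hα, hαZ, hαr⟩ := exists_move h1 (fun x hx => Z2_le_E1 hx) (mem_normalizer_E1 u1)
    (by decide) hk1 (fun w hw => al_Z2 h1 hk1 hw) hk2 hr0Z
  obtain ⟨β, hβ, hi⟩ := h1.inv α hα
  have hr0E : r0 ∈ E1 := Z2_le_E1 hr0Z
  have hαr1 : α r0 ≠ 1 := by
    intro hh
    rw [← h1.one hα] at hh
    exact hr01 (h1.inj hα hr0E (one_mem _) hh)
  have hv'E : α (a w) ∈ E1 := h1.maps α hα _ hvE
  have hv'N : α (a w) ∉ N5 := by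
    intro hh
    have := al_N5 h1 hβ hh
    rw [(hi _ hvE).1] at this
    exact hN this
  have hconj : ∀ (f : P → P), f ∈ A1 → ∀ x ∈ E1, ∀ y ∈ E1, f (x * y * x⁻¹) = f x * f y * (f x)⁻¹ := by
    intro f hf x hx y hy
    rw [h1.mul f hf _ (mul_mem hx hy) _ (inv_mem hx), h1.mul f hf _ hx _ hy, h1.map_inv hf hx]
  have hdd : ∀ n ∈ N5, dd n (α (a w)) ∈ Z1 := by
    intro n hn
    have hbn := al_N5 h1 hβ hn
    obtain ⟨j, hj⟩ := hI _ hbn
    have e1 := hconj α hα (β n) (N5_le_E1 hbn) (a w) hvE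
    rw [conj_N5 hbn hvE, hj, (hi n (N5_le_E1 hn)).2, conj_N5 hn hv'E,
      h1.mul α hα _ hvE _ (pow_mem hr0E j), h1.map_pow hα hr0E] at e1
    rw [← mul_left_cancel e1]
    exact pow_mem hαr j
  have hv'X : α (a w) ∈ X6 := by
    have h6 := (hdd u6 ⟨rfl, rfl, rfl, rfl, rfl⟩).2.2.2.2.2.2.2.2
    have h7 := (hdd u7 ⟨rfl, rfl, rfl, rfl, rfl⟩).2.2.2.2.2.2.2.2
    have h8 := (hdd u8 ⟨rfl, rfl, rfl, rfl, rfl⟩).2.2.2.2.2.2.2.2
    simp only [dd, u6, u7, u8] at h6 h7 h8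
    have e2 : (α (a w)).x2 = 0 := by linear_combination -h8
    have e3 : (α (a w)).x3 = 0 := by linear_combination -h7
    have e4 : (α (a w)).x4 = 0 := by linear_combination -h6 + e2
    exact ⟨hv'E, e2, e3, e4⟩
  have hv'5 : (α (a w)).x5 ≠ 0 := fun hh => hv'N ⟨hv'X.1, hv'X.2.1, hv'X.2.2.1, hv'X.2.2.2, hh⟩
  -- the image of `Q`
  have hαQ : ∀ x ∈ Q, α x ∈ X6 ∧ (α x).x6 * (α (a w)).x5 = (α (a w)).x6 * (α x).x5 := by
    intro x hx
    have e1 : α x * α (a w) = α (a w) * α x := by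
      rw [← h1.mul α hα _ hvE _ (hQ hx), ← h1.mul α hα _ (hQ hx) _ hvE, hvc x hx]
    have hX := mem_X6_of_comm (h1.maps α hα _ (hQ hx)) hv'X hv'5 e1
    exact ⟨hX, (comm_X6 hX hv'X).1 e1⟩
  have hD : ∀ x ∈ X6, x.x6 * (α (a w)).x5 = (α (a w)).x6 * x.x5 → ∃ q ∈ Q, x = α q := by
    intro x hx hx6
    have hxE : x ∈ E1 := hx.1
    have hbE := h1.maps β hβ x hxE
    refine ⟨β x, ?_, (hi x hxE).2.symm⟩
    apply h.cent
    intro q hq
    obtain ⟨hqX, hq6⟩ := hαQ q hq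
    apply h1.inj hα (mul_mem hbE (hQ hq)) (mul_mem (hQ hq) hbE)
    rw [h1.mul α hα _ hbE _ (hQ hq), h1.mul α hα _ (hQ hq) _ hbE, (hi x hxE).2, comm_X6 hx hqX]
    have h3 : (x.x6 * (α q).x5 - (α q).x6 * x.x5) * (α (a w)).x5 = 0 := by
      linear_combination (α q).x5 * hx6 - x.x5 * hq6
    exact sub_eq_zero.1 ((mul_eq_zero.1 h3).resolve_right hv'5)
  -- the normalizer of `Q` is not contained in `E1`
  obtain ⟨n0, hn0, hn01⟩ : ∃ n ∈ normalizer (Q : Set P), n.x1 ≠ 0 := by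
    by_contra hh
    have hle : normalizer (Q : Set P) ≤ E1 := by
      intro n hn
      by_contra h2
      exact hh ⟨n, hn, h2⟩
    have hcard := hfn α hα E2 (fun n hn x hx => by
      obtain ⟨hX, h6⟩ := hαQ x hx
      obtain ⟨g1, g5, g6⟩ := conj_X6 n hX
      have hn2 : n.x2 = 0 := hn
      rw [hn2, mul_zero, sub_zero] at g6
      exact hD _ g1 (by rw [g6, g5]; exact h6))
    have heq : normalizer (Q : Set P) = E1 := by
      apply Subgroup.eq_of_le_of_card_ge hle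
      rw [card_E1_E2]
      exact hcard
    have hbu : β u2 ∈ normalizer (Q : Set P) := by
      rw [heq]
      exact h1.maps β hβ u2 rfl
    have hbuE : β u2 ∈ E1 := h1.maps β hβ u2 rfl
    have h2 : β u2 * a w * (β u2)⁻¹ ∈ Q := (mem_normalizer_iff.1 hbu _).1 haQ
    obtain ⟨g1, g2⟩ := hαQ _ h2
    rw [hconj α hα _ hbuE _ hvE, (hi u2 rfl).2] at g2
    obtain ⟨f1, f5, f6⟩ := conj_X6 u2 hv'X
    rw [f5, f6] at g2
    have h3 : (α (a w)).x5 * (α (a w)).x5 = 0 := by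
      have h4 : u2.x2 = 1 := rfl
      rw [h4] at g2
      linear_combination -g2
    exact hv'5 (mul_self_eq_zero.1 h3)
  obtain ⟨k, hkA, hkZ, hk1'⟩ := hk
  have hmove : ∀ r ∈ Z2, ∃ s ∈ A, (∀ w ∈ Z2, s w ∈ Z2) ∧ s r ∈ Z1 := fun r hr =>
    exists_move h hW hn0 hn01 hkA hkZ hk1' hr
  have hyQn : y ∈ normalizer (Q : Set P) := N5_normalizes hQ hW hyN
  have hyx : ∀ x ∈ Q, ∃ j : ℕ, y * x * y⁻¹ = x * r0 ^ j := by
    intro x hx
    have hdE := Z2_le_E1 (dd_mem y x)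
    have hαx := (hαQ x hx).1
    have hαy := al_N5 h1 hα hyN
    have e1 := hconj α hα y hyE x (hQ hx)
    rw [conj_N5 hyN (hQ hx), h1.mul α hα _ (hQ hx) _ hdE, conj_N5 hαy (h1.maps α hα _ (hQ hx))] at e1
    have e2 := mul_left_cancel e1
    have e3 : α (dd y x) ∈ Z1 := by
      rw [e2]
      refine ⟨rfl, rfl, rfl, rfl, rfl, rfl, rfl, rfl, ?_⟩
      simp [dd, hαx.2.1, hαx.2.2.1, hαx.2.2.2]
    obtain ⟨j, hj⟩ := Z1_pow hαr e3 hαr1
    refine ⟨j, ?_⟩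
    rw [conj_N5 hyN (hQ hx)]
    congr 1
    apply h1.inj hα hdE (pow_mem hr0E j)
    rw [hj, h1.map_pow hα hr0E]
  apply lemma_b h hSE hW hmov
  intro r hr hr1
  obtain ⟨s1, hs1, hs1Z, hs1r⟩ := hmove r0 hr0Z
  obtain ⟨s2, hs2, hs2Z, hs2r⟩ := hmove r hr
  obtain ⟨g2, hg2, hg2i, hg2Z⟩ := inv_Z2 h hW hs2 hs2Z
  have hs2r1 : s2 r ≠ 1 := by
    intro hh
    rw [← h.one hs2] at hh
    exact hr1 (h.inj hs2 (hW hr) (one_mem _) hh)
  obtain ⟨i, hi'⟩ := Z1_pow hs2r hs1r hs2r1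
  -- `s = g2 ∘ s1`
  have hs := h.comp g2 hg2 s1 hs1
  have hsr : g2 (s1 r0) = r ^ i := by
    rw [hi', h.map_pow hg2 (h.maps s2 hs2 _ (hW hr)), (hg2i _ (hW hr)).1]
  have hsZ : ∀ w ∈ Z2, g2 (s1 w) ∈ Z2 := fun w hw => hg2Z _ (hs1Z w hw)
  generalize hs' : (fun x => g2 (s1 x)) = s at hs
  have hsr' : s r0 = r ^ i := by rw [← hs', ← hsr]
  have hsZ' : ∀ w ∈ Z2, s w ∈ Z2 := by rw [← hs']; exact hsZ
  clear hsr hsZ hs'
  obtain ⟨g, hg, hgi, hgZ⟩ := inv_Z2 h hW hs hsZ'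
  refine ⟨fun x => s (y * g x * y⁻¹), h.comp s hs _ (h.comp _ (h.conj y hyQn) g hg), ⟨10, ?_⟩, ?_, ?_⟩
  · intro x hx
    rw [iter_conj Q s g (h.maps g hg) (fun x hx => ⟨(hgi x hx).1, (hgi x hx).2⟩) y hyQn _ x hx, pow3_10]
    simp [(hgi x hx).2]
  · rintro ⟨q, hq, hc'⟩
    have hsv := h.maps s hs _ haQ
    have h2 := hc' _ hsv
    have h3 : q * s (a w) * q⁻¹ = s (a w) := by
      have := member_central h hQ hW (h.comp s hs a ha) hw hq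
      have h4 : s (a w) * q = q * s (a w) := this
      rw [← h4, mul_inv_cancel_right]
    rw [h3] at h2
    have h2' : s (y * g (s (a w)) * y⁻¹) = s (a w) := h2
    rw [(hgi _ haQ).1] at h2'
    have h5 : y * a w * y⁻¹ ∈ Q := (mem_normalizer_iff.1 hyQn _).1 haQ
    have h6 := h.inj hs h5 haQ h2'
    apply hyv
    rw [← mul_inv_eq_iff_eq_mul]
    exact h6
  · intro b hb x hx
    have hbx := h.maps b hb x (hW hx)
    have hgb := h.maps g hg _ hbx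
    obtain ⟨j, hj⟩ := hyx _ hgb
    refine ⟨i * j, ?_⟩
    show s (y * g (b x) * y⁻¹) = _
    rw [hj, h.mul s hs _ hgb _ (pow_mem (hW hr0Z) j), h.map_pow hs (hW hr0Z), (hgi _ hbx).2, hsr', ← pow_mul]

/-- "Theorem beta" -/
theorem thmBeta {Q : Subgroup P} {A : Set (P → P)} (h : Ctx Q A) (hSE : SE Q A Z2) (hQ : Q ≤ E1) (hW : Z2 ≤ Q)
    (hmov : ∃ a ∈ A, ∃ w ∈ Z2, a w ∉ Z2) (hk : ∃ k ∈ A, (∀ w ∈ Z2, k w ∈ Z2) ∧ k u10 ∉ Z1)
    {A1 : Set (P → P)} (h1 : Ctx E1 A1) (h1m : ∃ α ∈ A1, α u10 ∉ Z1)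
    (htr : ∀ α ∈ A1, ∀ β ∈ A1, (∀ x ∈ E1, β (α x) = x) → ∀ y : P,
      (∀ x ∈ Q, ∃ x' ∈ Q, y * α x * y⁻¹ = α x') → (fun x => β (y * α x * y⁻¹)) ∈ A)
    (hfn : ∀ α ∈ A1, ∀ N : Subgroup P, (∀ n ∈ N, ∀ x ∈ Q, ∃ x' ∈ Q, n * α x * n⁻¹ = α x') →
      Nat.card N ≤ Nat.card (normalizer (Q : Set P))) :
    ∀ a ∈ A, (∃ w ∈ Z2, a w ∉ Z2) → ∀ w ∈ Z2, w ≠ 1 → a w ∉ N5 ∧ ∀ z ∈ Z2, ∃ n ∈ N5, n * a w * n⁻¹ = a w * z := by
  obtain ⟨a0, ha0, w0, hw0, h0N⟩ := step1 h hSE hQ hW hmov h1 h1m htr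
  have h2 : ∀ a ∈ A, ∀ w ∈ Z2, a w ∉ N5 → ∀ z ∈ Z2, ∃ n ∈ N5, n * a w * n⁻¹ = a w * z :=
    fun a ha w hw hN => step2 h hSE hQ hW hmov hk h1 h1m hfn ha hw hN
  -- an element of `N5` outside `Q`
  obtain ⟨n0, hn0, hn0Q⟩ : ∃ n ∈ N5, n ∉ Q := by
    obtain ⟨n, hn, e⟩ := h2 a0 ha0 w0 hw0 h0N u10 u10_mem
    refine ⟨n, hn, fun hnQ => ?_⟩
    rw [← member_central h hQ hW ha0 hw0 hnQ, mul_inv_cancel_right] at e
    have h3 : u10 = 1 := by simpa using e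
    exact absurd h3 (by decide)
  have hn0n := N5_normalizes hQ hW hn0
  have hn0Z : ∀ w ∈ Z2, n0 * w * n0⁻¹ = w := by
    intro w hw
    rw [← comm_Z2 hw (N5_le_E1 hn0), mul_inv_cancel_right]
  have hI : ∀ a ∈ A, (∃ w ∈ Z2, w ≠ 1 ∧ a w ∈ Z2) → ∀ w ∈ Z2, a w ∈ Z2 := by
    rintro a ha ⟨w1, hw1, hw11, haw1⟩
    -- `w2` with `Z2 = <w1, w2>`
    obtain ⟨w2, hw2, hspan⟩ : ∃ w2 ∈ Z2, ∀ z ∈ Z2, ∃ i j : ℕ, z = w1 ^ i * w2 ^ j := by
      rcases Z2_span hw1 u9_mem hw11 with ⟨i, hi⟩ | h3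
      · rcases Z2_span hw1 u10_mem hw11 with ⟨j, hj⟩ | h3
        · exfalso
          -- both are powers of `w1`
          have e1 := eq_zz hw1
          rw [e1, u9_eq, zz_pow] at hi
          rw [e1, u10_eq, zz_pow] at hj
          have a1 := (zz_inj hi).1
          have a2 := (zz_inj hi).2
          have b1 := (zz_inj hj).1
          have b2 := (zz_inj hj).2
          have : (1 : ZMod 3) = 0 := by
            have e3 : ((i : ZMod 3) * w1.x9) * ((j : ZMod 3) * w1.x10) = ((i : ZMod 3) * w1.x10) * ((j : ZMod 3) * w1.x9) := by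
              ring
            rw [← a1, ← a2, ← b1, ← b2] at e3
            simp at e3
          exact absurd this (by decide)
        · exact ⟨u10, u10_mem, h3⟩
      · exact ⟨u9, u9_mem, h3⟩
    have hval : ∀ i j : ℕ, a (w1 ^ i * w2 ^ j) = a w1 ^ i * a w2 ^ j := by
      intro i j
      rw [h.mul a ha _ (pow_mem (hW hw1) i) _ (pow_mem (hW hw2) j), h.map_pow ha (hW hw1), h.map_pow ha (hW hw2)]
    by_cases hN : a w2 ∈ N5
    · intro w hw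
      obtain ⟨w', hw', e⟩ := SE.conj hSE h hn0n hn0Q ha h.id_mem (fun w hw => by
        refine ⟨w, hw, ?_⟩
        obtain ⟨i, j, rfl⟩ := hspan w hw
        have hm : a (w1 ^ i * w2 ^ j) ∈ N5 := by
          rw [hval]
          exact mul_mem (pow_mem (Z2_le_N5 haw1) i) (pow_mem hN j)
        rw [comm_N5 hn0 hm, mul_inv_cancel_right]) (fun w hw => ⟨w, hw, hn0Z w hw⟩) w hw
      rw [e]
      exact hw'
    · obtain ⟨n, hn, e⟩ := h2 a ha w2 hw2 hN (a w1) haw1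
      have hnQ : n ∉ Q := by
        intro hnQ
        rw [← member_central h hQ hW ha hw2 hnQ, mul_inv_cancel_right] at e
        have h3 : a w1 = 1 := by simpa using e
        rw [← h.one ha] at h3
        exact hw11 (h.inj ha (hW hw1) (one_mem _) h3)
      have hnZ : ∀ w ∈ Z2, n * w * n⁻¹ = w := by
        intro w hw
        rw [← comm_Z2 hw (N5_le_E1 hn), mul_inv_cancel_right]
      have hcomm : Commute (a w2) (a w1) := member_central h hQ hW ha hw2 (h.maps a ha _ (hW hw1))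
      intro w hw
      obtain ⟨w', hw', e'⟩ := SE.conj hSE h (N5_normalizes hQ hW hn) hnQ ha h.id_mem (fun w hw => by
        obtain ⟨i, j, rfl⟩ := hspan w hw
        refine ⟨w1 ^ (i + j) * w2 ^ j, mul_mem (pow_mem hw1 _) (pow_mem hw2 _), ?_⟩
        rw [hval, hval]
        have e3 : n * (a w1 ^ i * a w2 ^ j) * n⁻¹ = (n * a w1 * n⁻¹) ^ i * (n * a w2 * n⁻¹) ^ j := by
          rw [conj_pow, conj_pow]
          group
        rw [e3, hnZ _ haw1, e, hcomm.mul_pow, (hcomm.pow_pow j j).eq, ← mul_assoc, ← pow_add])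
        (fun w hw => ⟨w, hw, hnZ w hw⟩) w hw
      rw [e']
      exact hw'
  intro a ha hne w hw hw1
  have hN : a w ∉ N5 := by
    intro hN
    obtain ⟨x, hx, hax⟩ := hne
    have hb := h.comp _ (h.conj n0 hn0n) a ha
    have e0 : (fun x => n0 * x * n0⁻¹) (a w) = a w := by
      show n0 * a w * n0⁻¹ = a w
      rw [comm_N5 hn0 hN, mul_inv_cancel_right]
    have h3 := meet h hW hI hb ha hw hw1 hw e0
    obtain ⟨w', hw', e⟩ := SE.conj hSE h hn0n hn0Q ha h.id_mem h3 (fun w hw => ⟨w, hw, hn0Z w hw⟩) x hx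
    rw [e] at hax
    exact hax hw'
  exact ⟨hN, h2 a ha w hw hN⟩

end

end Cfsg.Agent.H418.ThB
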