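import Cfsg.Agent.H776.ThCtx
import Mathlib.GroupTheory.Nilpotent

/-!
Facts for "Theorem beta" on the model of the Sylow 3-subgroup of the Thompson group.
-/

set_option autoImplicit false
set_option linter.style.longLine false

namespace Cfsg.Agent.H418.ThB

open Subgroup Cfsg.Agent.H776.ThS

theorem Z2_le_N5 {x : P} (hx : x ∈ Z2) : x ∈ N5 := ⟨hx.1, hx.2.1, hx.2.2.1, hx.2.2.2.1, hx.2.2.2.2.1⟩
theorem Z2_le_E1 {x : P} (hx : x ∈ Z2) : x ∈ E1 := hx.1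
theorem N5_le_E1 {x : P} (hx : x ∈ N5) : x ∈ E1 := hx.1
theorem Z1_le_Z2 {x : P} (hx : x ∈ Z1) : x ∈ Z2 :=
  ⟨hx.1, hx.2.1, hx.2.2.1, hx.2.2.2.1, hx.2.2.2.2.1, hx.2.2.2.2.2.1, hx.2.2.2.2.2.2.1, hx.2.2.2.2.2.2.2.1⟩

/-- the commutator `[n, x]` for `n` in `N5` and `x` in `E1` -/
def dd (n x : P) : P := ⟨0, 0, 0, 0, 0, 0, 0, 0, (x.x2 - x.x4) * n.x6 - x.x3 * n.x7 - x.x2 * n.x8,
  (x.x5 + x.x3) * n.x6 + (x.x2 - x.x4) * n.x7 - x.x3 * n.x8⟩

theorem dd_mem (n x : P) : dd n x ∈ Z2 := ⟨rfl, rfl, rfl, rfl, rfl, rfl, rfl, rfl⟩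

theorem comm_N5 {m n : P} (hm : m ∈ N5) (hn : n ∈ N5) : m * n = n * m := by
  rw [mulN m n hn, mulN n m hm]
  obtain ⟨h1, h2, h3, h4, h5⟩ := hm
  obtain ⟨k1, k2, k3, k4, k5⟩ := hn
  ext <;> simp only [h1, h2, h3, h4, h5, k1, k2, k3, k4, k5] <;> ring

theorem N5_E1 {n x : P} (hn : n ∈ N5) (hx : x ∈ E1) : n * x = x * dd n x * n := by
  have hx1 : x.x1 = 0 := hx
  rw [N5_mul n x hn, mul_assoc, mulN _ _ (cx_mem n x), mulN (dd n x) n hn, mulN x _]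
  · ext <;> simp only [cx, dd, hx1] <;> ring
  · exact ⟨rfl, rfl, rfl, rfl, rfl⟩

theorem conj_N5 {n x : P} (hn : n ∈ N5) (hx : x ∈ E1) : n * x * n⁻¹ = x * dd n x := by
  rw [N5_E1 hn hx, mul_inv_cancel_right]

theorem comm_Z2 {w x : P} (hw : w ∈ Z2) (hx : x ∈ E1) : w * x = x * w := by
  rw [N5_E1 (Z2_le_N5 hw) hx]
  have : dd w x = 1 := by
    obtain ⟨-, -, -, -, -, h6, h7, h8⟩ := hw
    ext <;> simp [dd, h6, h7, h8, one_x1, one_x2, one_x3, one_x4, one_x5, one_x6, one_x7, one_x8, one_x9, one_x10]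
  rw [this, mul_one]

theorem u9_mem : u9 ∈ Z2 := ⟨rfl, rfl, rfl, rfl, rfl, rfl, rfl, rfl⟩
theorem u10_mem : u10 ∈ Z2 := ⟨rfl, rfl, rfl, rfl, rfl, rfl, rfl, rfl⟩
theorem u10_mem1 : u10 ∈ Z1 := ⟨rfl, rfl, rfl, rfl, rfl, rfl, rfl, rfl, rfl⟩

/-- `Z1` is central -/
theorem comm_Z1 {w x : P} (hw : w ∈ Z1) : w * x = x * w := by
  rw [N5_mul w x (Z2_le_N5 (Z1_le_Z2 hw))]
  congr 1
  obtain ⟨h1, h2, h3, h4, h5, h6, h7, h8, h9⟩ := hw
  ext <;> simp [cx, h1, h2, h3, h4, h5, h6, h7, h8, h9]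

theorem mem_E1_of_comm {x : P} (h : ∀ w ∈ Z2, w * x = x * w) : x ∈ E1 := by
  have h1 := h u9 u9_mem
  rw [N5_mul u9 x (Z2_le_N5 u9_mem), mul_right_inj] at h1
  have h2 : (cx u9 x).x10 = u9.x10 := by rw [h1]
  simp only [cx, u9] at h2
  rw [mem_E1]
  linear_combination h2

theorem mem_N5_of_comm {x : P} (hx : x ∈ E1) (h : ∀ n ∈ N5, n * x = x * n) : x ∈ N5 := by
  have key : ∀ n ∈ N5, dd n x = 1 := by
    intro n hn
    have h1 := h n hn
    rw [N5_E1 hn hx, mul_left_inj] at h1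
    simpa using h1
  have h6 := key u6 ⟨rfl, rfl, rfl, rfl, rfl⟩
  have h7 := key u7 ⟨rfl, rfl, rfl, rfl, rfl⟩
  have h8 := key u8 ⟨rfl, rfl, rfl, rfl, rfl⟩
  have a1 : (dd u6 x).x9 = 0 := by rw [h6]; rfl
  have a2 : (dd u6 x).x10 = 0 := by rw [h6]; rfl
  have b1 : (dd u7 x).x9 = 0 := by rw [h7]; rfl
  have c1 : (dd u8 x).x9 = 0 := by rw [h8]; rfl
  simp only [dd, u6, u7, u8] at a1 a2 b1 c1
  have e2 : x.x2 = 0 := by linear_combination -c1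
  have e3 : x.x3 = 0 := by linear_combination -b1
  have e4 : x.x4 = 0 := by linear_combination -a1 + e2
  have e5 : x.x5 = 0 := by linear_combination a2 - e3
  exact ⟨hx, e2, e3, e4, e5⟩

theorem mem_Z2_of_comm {x : P} (hx : x ∈ E1) (h : ∀ y ∈ E1, y * x = x * y) : x ∈ Z2 := by
  have hN := mem_N5_of_comm hx (fun n hn => h n (N5_le_E1 hn))
  have key : ∀ y ∈ E1, dd x y = 1 := by
    intro y hy
    have h1 := h y hy
    rw [N5_E1 hN hy] at h1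
    have h2 : y * x = y * (dd x y * x) := by rw [h1, mul_assoc]
    rw [mul_right_inj] at h2
    exact (right_eq_mul.1 h2)
  have h5 := key u5 rfl
  have h3 := key u3 rfl
  have a1 : (dd x u5).x10 = 0 := by rw [h5]; rfl
  have a2 : (dd x u3).x9 = 0 := by rw [h3]; rfl
  have a3 : (dd x u3).x10 = 0 := by rw [h3]; rfl
  simp only [dd, u5, u3] at a1 a2 a3
  have e6 : x.x6 = 0 := by linear_combination a1
  have e7 : x.x7 = 0 := by linear_combination -a2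
  have e8 : x.x8 = 0 := by linear_combination -a3 + e6
  exact ⟨hN.1, hN.2.1, hN.2.2.1, hN.2.2.2.1, hN.2.2.2.2, e6, e7, e8⟩

theorem mem_N5_of_comm_mod {x : P} (hx : x ∈ E1) (h : ∀ y ∈ E1, ∃ z ∈ Z2, x * y = y * x * z) : x ∈ N5 := by
  have key : ∀ y ∈ E1, ce x y ∈ Z2 := by
    intro y hy
    obtain ⟨z, hz, h1⟩ := h y hy
    rw [E1_mul x y hx hy, mul_right_inj] at h1
    rw [h1]
    exact hz
  have h2 := key u2 rfl
  have h5 := key u5 rfl
  obtain ⟨-, -, -, -, -, a6, a7, -⟩ := h2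
  obtain ⟨-, -, -, -, -, b6, b7, -⟩ := h5
  simp only [ce, u2, u5] at a6 a7 b6 b7
  have e5 : x.x5 = 0 := by linear_combination a6
  have e4 : x.x4 = 0 := by linear_combination -a7
  have e2 : x.x2 = 0 := by linear_combination -b6
  have e3 : x.x3 = 0 := by linear_combination -b7
  exact ⟨hx, e2, e3, e4, e5⟩

/-! ### elements of `P` acting on `E1` -/

theorem E1_normal (y : P) {x : P} (hx : x ∈ E1) : y * x * y⁻¹ ∈ E1 := by
  have h : ∀ a b : P, (a * b).x1 = a.x1 + b.x1 := mul_x1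
  have h1 : (y * y⁻¹).x1 = 0 := by rw [mul_inv_cancel]; rfl
  rw [mem_E1] at hx ⊢
  rw [h] at h1
  rw [h, h, hx, add_zero, h1]

theorem mem_normalizer_E1 (y : P) : y ∈ normalizer (E1 : Set P) := by
  rw [mem_normalizer_iff]
  intro x
  refine ⟨fun hx => E1_normal y hx, fun hx => ?_⟩
  have := E1_normal y⁻¹ hx
  simpa [mul_assoc] using this

theorem isPGroup_sub (H : Subgroup P) : IsPGroup 3 H := isPGroup_P.to_subgroup H

/-- normalizers grow -/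
theorem exists_norm {Q R : Subgroup P} (hQR : Q ≤ R) (hne : ∃ x ∈ R, x ∉ Q) :
    ∃ g ∈ R, g ∉ Q ∧ g ∈ normalizer (Q : Set P) := by
  have : Fact (Nat.Prime 3) := ⟨Nat.prime_three⟩
  have := (isPGroup_sub R).isNilpotent
  have hnc : NormalizerCondition R := Group.normalizerCondition_of_isNilpotent
  have hlt : Q.subgroupOf R < ⊤ := by
    rw [lt_top_iff_ne_top]
    intro h
    rw [Subgroup.subgroupOf_eq_top] at h
    obtain ⟨x, hx, hxQ⟩ := hne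
    exact hxQ (h hx)
  have h1 := hnc _ hlt
  obtain ⟨g, hg, hgQ⟩ := SetLike.exists_of_lt h1
  refine ⟨g, g.2, fun h => hgQ (mem_subgroupOf.2 h), ?_⟩
  rw [mem_normalizer_iff] at hg ⊢
  intro x
  constructor
  · intro hx
    exact mem_subgroupOf.1 ((hg ⟨x, hQR hx⟩).1 (mem_subgroupOf.2 hx))
  · intro hx
    have hxR : x ∈ R := by
      have h2 := mul_mem (mul_mem (inv_mem g.2) (hQR hx)) g.2
      simpa [mul_assoc] using h2
    exact mem_subgroupOf.1 ((hg ⟨x, hxR⟩).2 (mem_subgroupOf.2 hx))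

end Cfsg.Agent.H418.ThB
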