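import Cfsg.Agent.H418.ThBeta0

/-!
"Theorem beta" on the model of the Sylow 3-subgroup of the Thompson group: general lemmas.
-/

set_option autoImplicit false
set_option linter.style.longLine false

namespace Cfsg.Agent.H418.ThB

open Subgroup Cfsg.Agent.H776.ThS

/-! ### `Z2` as a vector space -/

/-- an element of `Z2` -/
def zz (a b : ZMod 3) : P := ⟨0, 0, 0, 0, 0, 0, 0, 0, a, b⟩

theorem zz_mem (a b : ZMod 3) : zz a b ∈ Z2 := ⟨rfl, rfl, rfl, rfl, rfl, rfl, rfl, rfl⟩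

theorem eq_zz {w : P} (hw : w ∈ Z2) : w = zz w.x9 w.x10 := by
  obtain ⟨h1, h2, h3, h4, h5, h6, h7, h8⟩ := hw
  ext <;> simp [zz, *]

theorem zz_mul (a b c d : ZMod 3) : zz a b * zz c d = zz (a + c) (b + d) := by
  rw [mulN _ _ (Z2_le_N5 (zz_mem c d))]
  ext <;> simp [zz]

theorem zz_one : zz 0 0 = 1 := rfl

theorem zz_pow (a b : ZMod 3) (n : ℕ) : zz a b ^ n = zz (n * a) (n * b) := by
  induction n with
  | zero => rw [pow_zero, Nat.cast_zero, zero_mul, zero_mul, zz_one]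
  | succ n ih =>
    rw [pow_succ, ih, zz_mul]
    push_cast
    congr 1 <;> ring

theorem zz_inj {a b c d : ZMod 3} (h : zz a b = zz c d) : a = c ∧ b = d :=
  ⟨congrArg V.x9 h, congrArg V.x10 h⟩

theorem zz_mem1 {a b : ZMod 3} : zz a b ∈ Z1 ↔ a = 0 :=
  ⟨fun h => h.2.2.2.2.2.2.2.2, fun h => ⟨rfl, rfl, rfl, rfl, rfl, rfl, rfl, rfl, h⟩⟩

theorem u10_eq : u10 = zz 0 1 := rfl
theorem u9_eq : u9 = zz 1 0 := rfl

theorem lin1 : ∀ a b : ZMod 3, b ≠ 0 → ∃ j : ℕ, a = j * b := by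
  intro a b hb
  refine ⟨(a * b⁻¹).val, ?_⟩
  rw [ZMod.natCast_zmod_val]
  field_simp

/-- generation of `Z1` -/
theorem Z1_pow {s t : P} (hs : s ∈ Z1) (ht : t ∈ Z1) (hs1 : s ≠ 1) : ∃ j : ℕ, t = s ^ j := by
  have e1 := eq_zz (Z1_le_Z2 hs)
  have e2 := eq_zz (Z1_le_Z2 ht)
  have s9 : s.x9 = 0 := hs.2.2.2.2.2.2.2.2
  have t9 : t.x9 = 0 := ht.2.2.2.2.2.2.2.2
  rw [s9] at e1
  rw [t9] at e2
  have hs10 : s.x10 ≠ 0 := by
    intro h
    rw [h] at e1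
    exact hs1 e1
  obtain ⟨j, hj⟩ := lin1 t.x10 s.x10 hs10
  refine ⟨j, ?_⟩
  rw [e1, e2, zz_pow, mul_zero]
  congr 1

theorem Z2_pow3 {w : P} (hw : w ∈ Z2) : w ^ 3 = 1 := by
  rw [eq_zz hw, zz_pow]
  have : ((3 : ℕ) : ZMod 3) = 0 := by decide
  rw [this, zero_mul, zero_mul, zz_one]

theorem det2 : ∀ a b c d : ZMod 3, (a ≠ 0 ∨ b ≠ 0) → a * d - b * c = 0 → ∃ k : ZMod 3, c = k * a ∧ d = k * b := by
  decide

/-- generation of `Z2` -/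
theorem Z2_span {s t : P} (hs : s ∈ Z2) (ht : t ∈ Z2) (hs1 : s ≠ 1) :
    (∃ j : ℕ, t = s ^ j) ∨ ∀ z ∈ Z2, ∃ i j : ℕ, z = s ^ i * t ^ j := by
  have e1 := eq_zz hs
  have e2 := eq_zz ht
  generalize s.x9 = a at e1
  generalize s.x10 = b at e1
  generalize t.x9 = c at e2
  generalize t.x10 = d at e2
  have hab : a ≠ 0 ∨ b ≠ 0 := by
    by_contra hc
    push Not at hc
    rw [hc.1, hc.2] at e1
    exact hs1 e1
  by_cases hD : a * d - b * c = 0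
  · left
    obtain ⟨k, h1, h2⟩ := det2 a b c d hab hD
    refine ⟨k.val, ?_⟩
    rw [e1, e2, zz_pow, ZMod.natCast_zmod_val, h1, h2]
  · right
    intro z hz
    have e3 := eq_zz hz
    generalize z.x9 = x at e3
    generalize z.x10 = y at e3
    refine ⟨((x * d - y * c) * (a * d - b * c)⁻¹).val, ((a * y - b * x) * (a * d - b * c)⁻¹).val, ?_⟩
    rw [e1, e2, e3, zz_pow, zz_pow, ZMod.natCast_zmod_val, ZMod.natCast_zmod_val, zz_mul]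
    have hDi : (a * d - b * c) * (a * d - b * c)⁻¹ = 1 := mul_inv_cancel₀ hD
    congr 1
    · linear_combination (-x) * hDi
    · linear_combination (-y) * hDi

section
variable {Q : Subgroup P} {A : Set (P → P)}

/-- the members `a Z2` are central in `Q` -/
theorem member_central (h : Ctx Q A) (hQ : Q ≤ E1) (hW : Z2 ≤ Q) {a : P → P} (ha : a ∈ A) {w : P} (hw : w ∈ Z2)
    {q : P} (hq : q ∈ Q) : a w * q = q * a w := by
  obtain ⟨g, hg, h1⟩ := h.inv a ha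
  have hgq := h.maps g hg q hq
  rw [← (h1 q hq).2, ← h.mul a ha _ (hW hw) _ hgq, ← h.mul a ha _ hgq _ (hW hw), comm_Z2 hw (hQ hgq)]

theorem mem_Q_of_comm (h : Ctx Q A) (hSE : SE Q A Z2) (hQ : Q ≤ E1) (hW : Z2 ≤ Q)
    (hmov : ∃ a ∈ A, ∃ w ∈ Z2, a w ∉ Z2) {x : P} (hx : ∀ a ∈ A, ∀ w ∈ Z2, x * a w = a w * x) : x ∈ Q := by
  by_contra hxQ
  set C : Subgroup P := centralizer {v | ∃ a ∈ A, ∃ w ∈ Z2, v = a w} with hC
  have hxC : x ∈ C := by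
    rw [hC, mem_centralizer_iff]
    rintro v ⟨a, ha, w, hw, rfl⟩
    exact (hx a ha w hw).symm
  have hQC : Q ≤ C := by
    intro q hq
    rw [hC, mem_centralizer_iff]
    rintro v ⟨a, ha, w, hw, rfl⟩
    exact member_central h hQ hW ha hw hq
  obtain ⟨n, hn, hnQ, hnn⟩ := exists_norm hQC ⟨x, hxC, hxQ⟩
  rw [hC, mem_centralizer_iff] at hn
  obtain ⟨a, ha, w, hw, haw⟩ := hmov
  have key : ∀ b ∈ A, ∀ w ∈ Z2, ∃ w' ∈ Z2, n * b w * n⁻¹ = b w' := by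
    intro b hb w hw
    refine ⟨w, hw, ?_⟩
    rw [← hn (b w) ⟨b, hb, w, hw, rfl⟩, mul_inv_cancel_right]
  obtain ⟨w', hw', e⟩ := SE.conj hSE h hnn hnQ ha h.id_mem (key a ha) (key _ h.id_mem) w hw
  rw [e] at haw
  exact haw hw'

/-- distinct members meet trivially if this is true for members meeting `Z2` -/
theorem meet (h : Ctx Q A) (hW : Z2 ≤ Q)
    (hI : ∀ a ∈ A, (∃ w ∈ Z2, w ≠ 1 ∧ a w ∈ Z2) → ∀ w ∈ Z2, a w ∈ Z2) {a b : P → P} (ha : a ∈ A) (hb : b ∈ A)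
    {w w' : P} (hw : w ∈ Z2) (hw1 : w ≠ 1) (hw' : w' ∈ Z2) (e : a w = b w') : ∀ x ∈ Z2, ∃ y ∈ Z2, a x = b y := by
  obtain ⟨g, hg, h1⟩ := h.inv b hb
  intro x hx
  have h2 := hI _ (h.comp g hg a ha) ⟨w, hw, hw1, by
    show g (a w) ∈ Z2
    rw [e, (h1 w' (hW hw')).1]
    exact hw'⟩ x hx
  exact ⟨_, h2, ((h1 _ (h.maps a ha x (hW hx))).2).symm⟩

/-- Lemma b -/
theorem lemma_b (h : Ctx Q A) (hSE : SE Q A Z2) (hW : Z2 ≤ Q) (hmov : ∃ a ∈ A, ∃ w ∈ Z2, a w ∉ Z2)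
    (Hb : ∀ r ∈ Z2, r ≠ 1 → ∃ u ∈ A, (∃ k : ℕ, ∀ x ∈ Q, u^[3 ^ k] x = x) ∧
      (¬ ∃ q ∈ Q, ∀ x ∈ Q, u x = q * x * q⁻¹) ∧ ∀ a ∈ A, ∀ w ∈ Z2, ∃ j : ℕ, u (a w) = a w * r ^ j) : False := by
  have hI : ∀ a ∈ A, (∃ w ∈ Z2, w ≠ 1 ∧ a w ∈ Z2) → ∀ w ∈ Z2, a w ∈ Z2 := by
    rintro a ha ⟨w0, hw0, hne, haw⟩
    have hr1 : a w0 ≠ 1 := by
      intro hh
      rw [← h.one ha] at hh
      exact hne (h.inj ha (hW hw0) (one_mem Q) hh)
    obtain ⟨u, hu, h3, hni, hj⟩ := Hb _ haw hr1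
    intro w hw
    obtain ⟨w', hw', e⟩ := hSE u hu h3 hni a ha _ h.id_mem (fun w hw => by
      obtain ⟨j, hj⟩ := hj a ha w hw
      refine ⟨w * w0 ^ j, mul_mem hw (pow_mem hw0 j), ?_⟩
      rw [hj, h.mul a ha _ (hW hw) _ (pow_mem (hW hw0) j), h.map_pow ha (hW hw0)]) (fun w hw => by
      obtain ⟨j, hj⟩ := hj _ h.id_mem w hw
      exact ⟨w * (a w0) ^ j, mul_mem hw (pow_mem haw j), hj⟩) w hw
    rw [e]
    exact hw'
  obtain ⟨a, ha, w0, hw0, haw0⟩ := hmov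
  obtain ⟨u, hu, h3, hni, hj⟩ := Hb u10 u10_mem (by decide)
  have hcen : ∀ x : P, u10 * x = x * u10 := fun x => comm_Z1 u10_mem1
  have hcomm : ∀ (x : P) (n : ℕ), u10 ^ n * x = x * u10 ^ n := fun x n =>
    comm_Z1 (pow_mem u10_mem1 n)
  -- a fixed element
  obtain ⟨w, hw, hw1, hfix⟩ : ∃ w ∈ Z2, w ≠ 1 ∧ u (a w) = a w := by
    obtain ⟨i, hi⟩ := hj a ha u9 u9_mem
    obtain ⟨j, hj'⟩ := hj a ha u10 u10_mem
    have hZ9 := h.maps a ha _ (hW u9_mem)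
    have hZ10 := h.maps a ha _ (hW u10_mem)
    by_cases hj3 : ((j : ℕ) : ZMod 3) = 0
    · refine ⟨u10, u10_mem, by decide, ?_⟩
      rw [hj', u10_eq, zz_pow, hj3, zero_mul, zero_mul, zz_one, mul_one]
    · obtain ⟨m, hm⟩ := lin1 (-(i : ZMod 3)) j hj3
      refine ⟨u9 * u10 ^ m, mul_mem u9_mem (pow_mem u10_mem m), ?_, ?_⟩
      · rw [u9_eq, u10_eq, zz_pow, zz_mul]
        intro h0
        have := (zz_inj (h0.trans zz_one.symm)).1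
        simp at this
      · have e1 : a (u9 * u10 ^ m) = a u9 * a u10 ^ m := by
          rw [h.mul a ha _ (hW u9_mem) _ (pow_mem (hW u10_mem) m), h.map_pow ha (hW u10_mem)]
        rw [e1, h.mul u hu _ hZ9 _ (pow_mem hZ10 m), h.map_pow hu hZ10, hi, hj', (show Commute (a u10) (u10 ^ j) from
          (hcomm _ j).symm).mul_pow, ← pow_mul, mul_assoc, ← mul_assoc (u10 ^ i), hcomm, mul_assoc, ← pow_add,
          ← mul_assoc]
        have : u10 ^ (i + j * m) = 1 := by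
          rw [u10_eq, zz_pow]
          have : ((i + j * m : ℕ) : ZMod 3) = 0 := by
            push_cast
            linear_combination -hm
          rw [this, zero_mul, zero_mul, zz_one]
        rw [this, mul_one]
  have hst := meet h hW hI (h.comp u hu a ha) ha hw hw1 hw hfix
  obtain ⟨w', hw', e⟩ := hSE u hu h3 hni a ha _ h.id_mem hst (fun w hw => by
    obtain ⟨j, hj⟩ := hj _ h.id_mem w hw
    exact ⟨w * u10 ^ j, mul_mem hw (pow_mem u10_mem j), hj⟩) w0 hw0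
  rw [e] at haw0
  exact haw0 hw'

/-- an element of `A` mapping `Z2` into itself has an inverse with the same property -/
theorem inv_Z2 (h : Ctx Q A) (hW : Z2 ≤ Q) {k : P → P} (hk : k ∈ A) (hkZ : ∀ w ∈ Z2, k w ∈ Z2) :
    ∃ g ∈ A, (∀ x ∈ Q, g (k x) = x ∧ k (g x) = x) ∧ ∀ w ∈ Z2, g w ∈ Z2 := by
  obtain ⟨g, hg, h1⟩ := h.inv k hk
  refine ⟨g, hg, h1, fun w hw => ?_⟩
  have hinj : Function.Injective (fun w : Z2 => (⟨k w, hkZ w w.2⟩ : Z2)) := by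
    intro x y hxy
    exact Subtype.ext (h.inj hk (hW x.2) (hW y.2) (congrArg Subtype.val hxy))
  obtain ⟨x, hx⟩ := (Finite.injective_iff_surjective.1 hinj) ⟨w, hw⟩
  have hx' : k x = w := congrArg Subtype.val hx
  rw [← hx', (h1 _ (hW x.2)).1]
  exact x.2

/-- conjugation by an inverse on `Z2` -/
theorem conj_zz (n : P) (a b : ZMod 3) : n⁻¹ * zz a b * (n⁻¹)⁻¹ = zz a (b + n.x1 * a) := by
  rw [inv_inv, N5_conj _ _ (Z2_le_N5 (zz_mem a b))]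
  ext <;> simp [cx, zz]

theorem pow_x1 (n : P) (j : ℕ) : (n ^ j).x1 = j * n.x1 := by
  induction j with
  | zero => simp [one_x1]
  | succ j ih =>
    rw [pow_succ, mul_x1, ih]
    push_cast
    ring

/-- moving any element of `Z2` into `Z1` -/
theorem exists_move (h : Ctx Q A) (hW : Z2 ≤ Q) {n : P} (hn : n ∈ normalizer (Q : Set P)) (hn1 : n.x1 ≠ 0)
    {k : P → P} (hk : k ∈ A) (hkZ : ∀ w ∈ Z2, k w ∈ Z2) (hk1 : k u10 ∉ Z1) {r : P} (hr : r ∈ Z2) :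
    ∃ s ∈ A, (∀ w ∈ Z2, s w ∈ Z2) ∧ s r ∈ Z1 := by
  obtain ⟨g, hg, h1, hgZ⟩ := inv_Z2 h hW hk hkZ
  have e0 := eq_zz hr
  generalize r.x9 = a at e0
  generalize r.x10 = b at e0
  have e1 := eq_zz (hkZ _ u10_mem)
  generalize (k u10).x9 = c at e1
  generalize (k u10).x10 = d at e1
  have hc : c ≠ 0 := by
    intro hc
    rw [e1, zz_mem1] at hk1
    exact hk1 hc
  by_cases ha : a = 0
  · refine ⟨_, h.id_mem, fun w hw => hw, ?_⟩
    show r ∈ Z1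
    rw [e0, zz_mem1]
    exact ha
  · obtain ⟨i, hi⟩ := lin1 a c hc
    obtain ⟨j, hj⟩ := lin1 (i * d - b) (n.x1 * a) (mul_ne_zero hn1 ha)
    have hm : (n ^ j)⁻¹ ∈ normalizer (Q : Set P) := inv_mem (pow_mem hn j)
    have hcZ : ∀ w ∈ Z2, (n ^ j)⁻¹ * w * ((n ^ j)⁻¹)⁻¹ ∈ Z2 := by
      intro w hw
      rw [eq_zz hw, conj_zz]
      exact zz_mem _ _
    refine ⟨_, h.comp g hg _ (h.conj _ hm), fun w hw => hgZ _ (hcZ w hw), ?_⟩
    show g ((n ^ j)⁻¹ * r * ((n ^ j)⁻¹)⁻¹) ∈ Z1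
    have e2 : (n ^ j)⁻¹ * r * ((n ^ j)⁻¹)⁻¹ = (k u10) ^ i := by
      rw [e0, e1, conj_zz, zz_pow, pow_x1, ← hi]
      congr 1
      linear_combination -hj
    rw [e2, h.map_pow hg (h.maps k hk _ (hW u10_mem)), (h1 _ (hW u10_mem)).1]
    exact pow_mem u10_mem1 i

end

/-! ### automorphisms of `E1` -/

section
variable {A1 : Set (P → P)}

theorem al_Z2 (h1 : Ctx E1 A1) {α : P → P} (hα : α ∈ A1) {w : P} (hw : w ∈ Z2) : α w ∈ Z2 := by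
  obtain ⟨β, hβ, hi⟩ := h1.inv α hα
  refine mem_Z2_of_comm (h1.maps α hα w (Z2_le_E1 hw)) fun y hy => ?_
  have hb := h1.maps β hβ y hy
  rw [← (hi y hy).2, ← h1.mul α hα _ hb _ (Z2_le_E1 hw), ← h1.mul α hα _ (Z2_le_E1 hw) _ hb, comm_Z2 hw hb]

theorem al_N5 (h1 : Ctx E1 A1) {α : P → P} (hα : α ∈ A1) {n : P} (hn : n ∈ N5) : α n ∈ N5 := by
  obtain ⟨β, hβ, hi⟩ := h1.inv α hα
  have hnE := N5_le_E1 hn
  refine mem_N5_of_comm_mod (h1.maps α hα n hnE) fun y hy => ?_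
  have hb := h1.maps β hβ y hy
  refine ⟨α (dd n (β y)), al_Z2 h1 hα (dd_mem _ _), ?_⟩
  have hd := Z2_le_E1 (dd_mem n (β y))
  have key : α (n * β y) = α (β y * n * dd n (β y)) := by
    rw [N5_E1 hn hb, mul_assoc, comm_Z2 (dd_mem _ _) hnE, ← mul_assoc]
  rw [h1.mul α hα _ (mul_mem hb hnE) _ hd, h1.mul α hα _ hb _ hnE, h1.mul α hα _ hnE _ hb, (hi y hy).2] at key
  exact key

end

end Cfsg.Agent.H418.ThB
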