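import Cfsg.Agent.H418.ThBeta1

/-!
"Theorem beta" on the model of the Sylow 3-subgroup of the Thompson group: the two main steps.
-/

set_option autoImplicit false
set_option linter.style.longLine false

namespace Cfsg.Agent.H418.ThB

open Subgroup Cfsg.Agent.H776.ThS

theorem iter_conj (S : Subgroup P) (f g : P → P) (hg : ∀ x ∈ S, g x ∈ S) (hfg : ∀ x ∈ S, g (f x) = x ∧ f (g x) = x)
    (y : P) (hy : y ∈ normalizer (S : Set P)) (k : ℕ) (x : P) (hx : x ∈ S) :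
    (fun x => f (y * g x * y⁻¹))^[k] x = f (y ^ k * g x * (y ^ k)⁻¹) := by
  induction k with
  | zero => simp [(hfg x hx).2]
  | succ k ih =>
    rw [Function.iterate_succ_apply', ih]
    have h1 : y ^ k * g x * (y ^ k)⁻¹ ∈ S := (mem_normalizer_iff.1 (pow_mem hy k) _).1 (hg x hx)
    show f (y * g (f (y ^ k * g x * (y ^ k)⁻¹)) * y⁻¹) = _
    rw [(hfg _ h1).1]
    congr 1
    rw [pow_succ']
    group

/-- conjugation of an element of `N5` by an element of `E1` -/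
theorem conj_E1 {c x : P} (hc : c ∈ N5) (hx : x ∈ E1) : x * c * x⁻¹ = c * (dd c x)⁻¹ := by
  have h1 := N5_E1 hc hx
  have h2 : x * c = c * (dd c x)⁻¹ * x := by
    have h3 : x * dd c x * c = x * c * dd c x := by
      rw [mul_assoc, comm_Z2 (dd_mem c x) (N5_le_E1 hc), ← mul_assoc]
    rw [h3] at h1
    have h4 : (dd c x)⁻¹ * x = x * (dd c x)⁻¹ := comm_Z2 (inv_mem (dd_mem c x)) hx
    rw [mul_assoc, h4, ← mul_assoc, h1, mul_inv_cancel_right]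
  rw [h2, mul_inv_cancel_right]

theorem dd_mul {m n x : P} (hn : n ∈ N5) : dd (m * n) x = dd m x * dd n x := by
  rw [mulN m n hn]
  rw [eq_zz (dd_mem m x), eq_zz (dd_mem n x), zz_mul]
  ext <;> simp only [dd, zz] <;> ring

theorem dd_pow {n x : P} (hn : n ∈ N5) (i : ℕ) : dd (n ^ i) x = dd n x ^ i := by
  induction i with
  | zero =>
    rw [pow_zero, pow_zero]
    ext <;> simp [dd, one_x1, one_x2, one_x3, one_x4, one_x5, one_x6, one_x7, one_x8, one_x9, one_x10]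
  | succ i ih => rw [pow_succ, dd_mul hn, ih, pow_succ]

theorem mem_normalizer_of_conj {Q : Subgroup P} {n : P} (h : ∀ x ∈ Q, n * x * n⁻¹ ∈ Q)
    (h' : ∀ x ∈ Q, n⁻¹ * x * n⁻¹⁻¹ ∈ Q) : n ∈ normalizer (Q : Set P) := by
  rw [mem_normalizer_iff]
  intro x
  refine ⟨fun hx => h x hx, fun hx => ?_⟩
  have := h' _ hx
  simpa [mul_assoc] using this

theorem N5_normalizes {Q : Subgroup P} (hQ : Q ≤ E1) (hW : Z2 ≤ Q) {n : P} (hn : n ∈ N5) :
    n ∈ normalizer (Q : Set P) := by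
  refine mem_normalizer_of_conj (fun x hx => ?_) (fun x hx => ?_)
  · rw [conj_N5 hn (hQ hx)]
    exact mul_mem hx (hW (dd_mem _ _))
  · rw [conj_N5 (inv_mem hn) (hQ hx)]
    exact mul_mem hx (hW (dd_mem _ _))

theorem comm_X6 {x y : P} (hx : x ∈ X6) (hy : y ∈ X6) : x * y = y * x ↔ x.x6 * y.x5 = y.x6 * x.x5 := by
  obtain ⟨a1, a2, a3, a4⟩ := hx
  obtain ⟨b1, b2, b3, b4⟩ := hy
  constructor
  · intro h
    have h1 : (x * y).x10 = (y * x).x10 := by rw [h]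
    rw [mulE_x10 _ _ b1, mulE_x10 _ _ a1, a2, a3, a4, b2, b3, b4] at h1
    linear_combination h1
  · intro h
    ext
    · rw [mul_x1, mul_x1]; ring
    · rw [mul_x2, mul_x2]; ring
    · rw [mul_x3, mul_x3, a1, b1]; ring
    · rw [mul_x4, mul_x4, a1, b1]; ring
    · rw [mul_x5, mul_x5, a1, b1]; ring
    · rw [mul_x6, mul_x6, a1, b1, a2, b2]; ring
    · rw [mul_x7, mul_x7, a1, b1, a2, b2, a3, b3]; ring
    · rw [mul_x8, mul_x8, a1, b1, a3, b3, a4, b4]; ring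
    · rw [mulE_x9 _ _ b1, mulE_x9 _ _ a1, a2, a3, a4, b2, b3, b4]; ring
    · rw [mulE_x10 _ _ b1, mulE_x10 _ _ a1, a2, a3, a4, b2, b3, b4]
      linear_combination h

/-- the centralizer in `E1` of an element of `X6 \ N5` -/
theorem mem_X6_of_comm {x v : P} (hx : x ∈ E1) (hv : v ∈ X6) (hv5 : v.x5 ≠ 0) (h : x * v = v * x) : x ∈ X6 := by
  have hvE : v ∈ E1 := hv.1
  obtain ⟨b1, b2, b3, b4⟩ := hv
  rw [E1_mul x v hx hvE] at h
  have hc : ce x v = 1 := by simpa using h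
  have c6 : (ce x v).x6 = 0 := by rw [hc]; rfl
  have c7 : (ce x v).x7 = 0 := by rw [hc]; rfl
  have c8 : (ce x v).x8 = 0 := by rw [hc]; rfl
  simp only [ce, b2, b3, b4] at c6 c7 c8
  have e2 : x.x2 = 0 := by
    have : v.x5 * x.x2 = 0 := by linear_combination -c6
    exact (mul_eq_zero.1 this).resolve_left hv5
  have e3 : x.x3 = 0 := by
    have : v.x5 * x.x3 = 0 := by linear_combination -c7
    exact (mul_eq_zero.1 this).resolve_left hv5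
  have e4 : x.x4 = 0 := by
    have : v.x5 * x.x4 = 0 := by linear_combination -c8
    exact (mul_eq_zero.1 this).resolve_left hv5
  exact ⟨hx, e2, e3, e4⟩

/-- conjugation of elements of `X6` -/
theorem conj_X6 (n : P) {x : P} (hx : x ∈ X6) : n * x * n⁻¹ ∈ X6 ∧ (n * x * n⁻¹).x5 = x.x5 ∧
    (n * x * n⁻¹).x6 = x.x6 - x.x5 * n.x2 := by
  obtain ⟨a1, a2, a3, a4⟩ := hx
  generalize hy : n * x * n⁻¹ = y
  have e : y * n = n * x := by rw [← hy]; group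
  have e1 : (y * n).x1 = (n * x).x1 := by rw [e]
  have e2 : (y * n).x2 = (n * x).x2 := by rw [e]
  have e3 : (y * n).x3 = (n * x).x3 := by rw [e]
  have e4 : (y * n).x4 = (n * x).x4 := by rw [e]
  have e5 : (y * n).x5 = (n * x).x5 := by rw [e]
  have e6 : (y * n).x6 = (n * x).x6 := by rw [e]
  rw [mul_x1, mul_x1, a1] at e1
  have y1 : y.x1 = 0 := by linear_combination e1
  rw [mul_x2, mul_x2, a2] at e2
  have y2 : y.x2 = 0 := by linear_combination e2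
  rw [mul_x3, mul_x3, a3, a1, y2] at e3
  have y3 : y.x3 = 0 := by linear_combination e3
  rw [mul_x4, mul_x4, a4, a1, y2, y3] at e4
  have y4 : y.x4 = 0 := by linear_combination e4
  rw [mul_x5, mul_x5, a1, y2] at e5
  have y5 : y.x5 = x.x5 := by linear_combination e5
  rw [mul_x6, mul_x6, a1, a2, y2, y5] at e6
  exact ⟨⟨y1, y2, y3, y4⟩, y5, by linear_combination e6⟩

theorem card_E1_E2 : Nat.card E1 = Nat.card E2 := by
  refine Nat.card_congr ⟨fun x => ⟨⟨x.1.x2, x.1.x1, x.1.x3, x.1.x4, x.1.x5, x.1.x6, x.1.x7, x.1.x8, x.1.x9, x.1.x10⟩, x.2⟩,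
    fun x => ⟨⟨x.1.x2, x.1.x1, x.1.x3, x.1.x4, x.1.x5, x.1.x6, x.1.x7, x.1.x8, x.1.x9, x.1.x10⟩, x.2⟩, fun x => rfl,
    fun x => rfl⟩

section
variable {Q : Subgroup P} {A : Set (P → P)} {A1 : Set (P → P)}

/-- transport of a commutator through an automorphism of `E1` -/
theorem transp (h : Ctx Q A) (hSE : SE Q A Z2) (hQ : Q ≤ E1) (hW : Z2 ≤ Q)
    (hmov : ∃ a ∈ A, ∃ w ∈ Z2, a w ∉ Z2) (h1 : Ctx E1 A1)
    (htr : ∀ α ∈ A1, ∀ β ∈ A1, (∀ x ∈ E1, β (α x) = x) → ∀ y : P,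
      (∀ x ∈ Q, ∃ x' ∈ Q, y * α x * y⁻¹ = α x') → (fun x => β (y * α x * y⁻¹)) ∈ A)
    {α β : P → P} (hα : α ∈ A1) (hβ : β ∈ A1) (hi : ∀ x ∈ E1, β (α x) = x ∧ α (β x) = x) {r : P} (hr : r ∈ Z2)
    (hr1 : r ≠ 1) (hαr : α r ∈ Z1)
    {y : P} (hy : ∀ a ∈ A, ∀ w ∈ Z2, ∃ t ∈ Z1, y * α (a w) * y⁻¹ = α (a w) * t)
    (hy1 : ∃ a ∈ A, ∃ w ∈ Z2, y * α (a w) * y⁻¹ ≠ α (a w)) :
    ∃ u ∈ A, (∃ k : ℕ, ∀ x ∈ Q, u^[3 ^ k] x = x) ∧
      (¬ ∃ q ∈ Q, ∀ x ∈ Q, u x = q * x * q⁻¹) ∧ ∀ a ∈ A, ∀ w ∈ Z2, ∃ j : ℕ, u (a w) = a w * r ^ j := by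
  have hrE : r ∈ E1 := Z2_le_E1 hr
  have hαr1 : α r ≠ 1 := by
    intro hh
    rw [← h1.one hα] at hh
    exact hr1 (h1.inj hα hrE (one_mem _) hh)
  -- the value on members
  have hval : ∀ a ∈ A, ∀ w ∈ Z2, ∃ j : ℕ, β (y * α (a w) * y⁻¹) = a w * r ^ j := by
    intro a ha w hw
    have haE := hQ (h.maps a ha w (hW hw))
    obtain ⟨t, ht, e⟩ := hy a ha w hw
    obtain ⟨j, hj⟩ := Z1_pow hαr ht hαr1
    refine ⟨j, ?_⟩
    rw [e, hj, ← h1.map_pow hα hrE, ← h1.mul α hα _ haE _ (pow_mem hrE j), (hi _ (mul_mem haE (pow_mem hrE j))).1]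
  refine ⟨fun x => β (y * α x * y⁻¹), ?_, ⟨10, ?_⟩, ?_, hval⟩
  · refine htr α hα β hβ (fun x hx => (hi x hx).1) y fun x hx => ?_
    have hzE : y * α x * y⁻¹ ∈ E1 := E1_normal y (h1.maps α hα x (hQ hx))
    refine ⟨β (y * α x * y⁻¹), ?_, (hi _ hzE).2.symm⟩
    apply mem_Q_of_comm h hSE hQ hW hmov
    intro a ha w hw
    have hbz := h1.maps β hβ _ hzE
    have haE := hQ (h.maps a ha w (hW hw))
    obtain ⟨t, ht, e⟩ := hy a ha w hw
    apply h1.inj hα (mul_mem hbz haE) (mul_mem haE hbz)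
    rw [h1.mul α hα _ hbz _ haE, h1.mul α hα _ haE _ hbz, (hi _ hzE).2]
    have h2 : α (a w) * α x = α x * α (a w) := by
      rw [← h1.mul α hα _ haE _ (hQ hx), ← h1.mul α hα _ (hQ hx) _ haE, member_central h hQ hW ha hw hx]
    have h3 : (y * α x * y⁻¹) * (y * α (a w) * y⁻¹) = (y * α (a w) * y⁻¹) * (y * α x * y⁻¹) := by
      have e1 : (y * α x * y⁻¹) * (y * α (a w) * y⁻¹) = y * (α x * α (a w)) * y⁻¹ := by group
      have e2 : (y * α (a w) * y⁻¹) * (y * α x * y⁻¹) = y * (α (a w) * α x) * y⁻¹ := by group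
      rw [e1, e2, h2]
    rw [e] at h3
    have h4 : α (a w) * t * (y * α x * y⁻¹) = α (a w) * (y * α x * y⁻¹) * t := by
      rw [mul_assoc, comm_Z1 ht, ← mul_assoc]
    rw [h4, ← mul_assoc] at h3
    exact mul_right_cancel h3
  · intro x hx
    rw [iter_conj E1 β α (h1.maps α hα) (fun x hx => ⟨(hi x hx).2, (hi x hx).1⟩) y (mem_normalizer_E1 y) _ x (hQ hx),
      pow3_10]
    simp [(hi x (hQ hx)).1]
  · rintro ⟨q, hq, hc⟩
    obtain ⟨a, ha, w, hw, hne⟩ := hy1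
    have haQ := h.maps a ha w (hW hw)
    have h2 := hc _ haQ
    have h3 : q * a w * q⁻¹ = a w := by
      rw [← member_central h hQ hW ha hw hq, mul_inv_cancel_right]
    rw [h3] at h2
    have h2' : β (y * α (a w) * y⁻¹) = a w := h2
    apply hne
    have hzE : y * α (a w) * y⁻¹ ∈ E1 := E1_normal y (h1.maps α hα _ (hQ haQ))
    rw [← (hi _ hzE).2, h2']

/-- step 1: some member is not contained in `N5` -/
theorem step1 (h : Ctx Q A) (hSE : SE Q A Z2) (hQ : Q ≤ E1) (hW : Z2 ≤ Q)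
    (hmov : ∃ a ∈ A, ∃ w ∈ Z2, a w ∉ Z2) (h1 : Ctx E1 A1) (h1m : ∃ α ∈ A1, α u10 ∉ Z1)
    (htr : ∀ α ∈ A1, ∀ β ∈ A1, (∀ x ∈ E1, β (α x) = x) → ∀ y : P,
      (∀ x ∈ Q, ∃ x' ∈ Q, y * α x * y⁻¹ = α x') → (fun x => β (y * α x * y⁻¹)) ∈ A) :
    ∃ a ∈ A, ∃ w ∈ Z2, a w ∉ N5 := by
  by_contra hcc
  have hc : ∀ a ∈ A, ∀ w ∈ Z2, a w ∈ N5 := by
    intro a ha w hw
    by_contra hh
    exact hcc ⟨a, ha, w, hw, hh⟩
  clear hcc
  apply lemma_b h hSE hW hmov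
  intro r hr hr1
  obtain ⟨k, hk, hk1⟩ := h1m
  obtain ⟨α, hα, hαZ, hαr⟩ := exists_move h1 (fun x hx => Z2_le_E1 hx) (mem_normalizer_E1 u1)
    (by decide) hk (fun w hw => al_Z2 h1 hk hw) hk1 hr
  obtain ⟨β, hβ, hi⟩ := h1.inv α hα
  have hN : ∀ a ∈ A, ∀ w ∈ Z2, α (a w) ∈ N5 := fun a ha w hw => al_N5 h1 hα (hc a ha w hw)
  have d5 : ∀ c : P, dd c u5 = zz 0 c.x6 := by
    intro c
    ext <;> simp [dd, zz, u5]
  have d4 : ∀ c : P, dd c u4 = zz (-c.x6) (-c.x7) := by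
    intro c
    ext <;> simp [dd, zz, u4]
  have d3 : ∀ c : P, dd c u3 = zz (-c.x7) (c.x6 - c.x8) := by
    intro c
    ext <;> simp [dd, zz, u3]
  have hmoved : ∀ c y : P, c * (dd c y)⁻¹ = c → dd c y = 1 := by
    intro c y hh
    simpa using hh
  by_cases H6 : ∃ a ∈ A, ∃ w ∈ Z2, (α (a w)).x6 ≠ 0
  · refine transp h hSE hQ hW hmov h1 htr hα hβ hi hr hr1 hαr (y := u5) ?_ ?_
    · intro a ha w hw
      refine ⟨(dd (α (a w)) u5)⁻¹, inv_mem ?_, conj_E1 (hN a ha w hw) rfl⟩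
      rw [d5, zz_mem1]
    · obtain ⟨a, ha, w, hw, h6⟩ := H6
      refine ⟨a, ha, w, hw, fun hh => h6 ?_⟩
      rw [conj_E1 (hN a ha w hw) rfl] at hh
      have := hmoved _ _ hh
      rw [d5, ← zz_one] at this
      exact (zz_inj this).2
  have H6' : ∀ a ∈ A, ∀ w ∈ Z2, (α (a w)).x6 = 0 := by
    intro a ha w hw
    by_contra hh
    exact H6 ⟨a, ha, w, hw, hh⟩
  by_cases H7 : ∃ a ∈ A, ∃ w ∈ Z2, (α (a w)).x7 ≠ 0
  · refine transp h hSE hQ hW hmov h1 htr hα hβ hi hr hr1 hαr (y := u4) ?_ ?_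
    · intro a ha w hw
      refine ⟨(dd (α (a w)) u4)⁻¹, inv_mem ?_, conj_E1 (hN a ha w hw) rfl⟩
      rw [d4, zz_mem1, H6' a ha w hw, neg_zero]
    · obtain ⟨a, ha, w, hw, h6⟩ := H7
      refine ⟨a, ha, w, hw, fun hh => h6 ?_⟩
      rw [conj_E1 (hN a ha w hw) rfl] at hh
      have := hmoved _ _ hh
      rw [d4, ← zz_one] at this
      exact neg_eq_zero.1 (zz_inj this).2
  have H7' : ∀ a ∈ A, ∀ w ∈ Z2, (α (a w)).x7 = 0 := by
    intro a ha w hw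
    by_contra hh
    exact H7 ⟨a, ha, w, hw, hh⟩
  by_cases H8 : ∃ a ∈ A, ∃ w ∈ Z2, (α (a w)).x8 ≠ 0
  · refine transp h hSE hQ hW hmov h1 htr hα hβ hi hr hr1 hαr (y := u3) ?_ ?_
    · intro a ha w hw
      refine ⟨(dd (α (a w)) u3)⁻¹, inv_mem ?_, conj_E1 (hN a ha w hw) rfl⟩
      rw [d3, zz_mem1, H7' a ha w hw, neg_zero]
    · obtain ⟨a, ha, w, hw, h6⟩ := H8
      refine ⟨a, ha, w, hw, fun hh => h6 ?_⟩
      rw [conj_E1 (hN a ha w hw) rfl] at hh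
      have := hmoved _ _ hh
      rw [d3, ← zz_one, H6' a ha w hw, zero_sub] at this
      exact neg_eq_zero.1 (zz_inj this).2
  exfalso
  obtain ⟨a, ha, w, hw, hne⟩ := hmov
  apply hne
  have haE := hQ (h.maps a ha w (hW hw))
  have hZ : α (a w) ∈ Z2 := by
    obtain ⟨c1, c2, c3, c4, c5⟩ := hN a ha w hw
    refine ⟨c1, c2, c3, c4, c5, H6' a ha w hw, H7' a ha w hw, ?_⟩
    by_contra hh
    exact H8 ⟨a, ha, w, hw, hh⟩
  have := al_Z2 h1 hβ hZ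
  rwa [(hi _ haE).1] at this

end

end Cfsg.Agent.H418.ThB
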