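import Cfsg.Agent.OrdDiv.Main
import Cfsg.Agent.H418.Rule

/-!
# The numerical tests for `PSU₃(q)` and `PSU₄(q)` (helper418)
-/

set_option autoImplicit false

namespace Cfsg.Agent.H418.UNums

open Cfsg.Agent.OrdDiv Cfsg.Agent.H418.Rule

/-- the numerical test: the order `n` and the degree `≤ d` of `p` in the prime graph leave only the group `g` -/
def Chk (l : List (ℕ × ℕ)) (n p d : ℕ) (g : Grp) : Prop :=
  valid l n = true ∧ (l.map Prod.fst).Nodup ∧ (p, 1) ∈ l ∧ d < cntS p p l ∧
    (cands l n).filter (fun g => (ordN g % p == 0) && Nat.ble (cntS p (ordN g) l) d) = [g] ∧ ordN g = n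

instance (l : List (ℕ × ℕ)) (n p d : ℕ) (g : Grp) : Decidable (Chk l n p d g) := by
  unfold Chk
  infer_instance

theorem c3_31 : Chk [(2, 11), (3, 1), (5, 1), (7, 2), (19, 1), (31, 3)] 852032133120 19 1 (.psu 3 31) := by decide +kernel

theorem c3_37 : Chk [(2, 4), (3, 2), (19, 2), (31, 1), (37, 3), (43, 1)] 3509983020816 43 1 (.psu 3 37) := by decide +kernel

theorem c3_43 : Chk [(2, 5), (3, 1), (7, 1), (11, 2), (13, 1), (43, 3), (139, 1)] 11682025843488 139 1 (.psu 3 43) := by decide +kernel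

theorem c3_47 : Chk [(2, 9), (3, 2), (7, 1), (23, 1), (47, 3), (103, 1)] 7933578895872 103 1 (.psu 3 47) := by decide +kernel

theorem c3_49 : Chk [(2, 6), (3, 1), (5, 4), (7, 6), (13, 1), (181, 1)] 33219371640000 181 1 (.psu 3 49) := by decide +kernel

theorem c3_59 : Chk [(2, 5), (3, 2), (5, 2), (7, 1), (29, 1), (59, 3), (163, 1)] 48929657263200 163 1 (.psu 3 59) := by decide +kernel

theorem c3_61 : Chk [(2, 4), (3, 1), (5, 1), (7, 1), (31, 2), (61, 3), (523, 1)] 191656636992240 523 1 (.psu 3 61) := by decide +kernel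

theorem c3_64 : Chk [(2, 18), (3, 2), (5, 2), (7, 1), (13, 2), (37, 1), (109, 1)] 281407330713600 109 1 (.psu 3 64) := by decide +kernel

theorem c3_73 : Chk [(2, 5), (3, 2), (7, 1), (37, 2), (73, 3), (751, 1)] 806310830350368 751 1 (.psu 3 73) := by decide +kernel

theorem c3_89 : Chk [(2, 5), (3, 4), (5, 2), (7, 1), (11, 1), (89, 3), (373, 1)] 1312032469255200 373 1 (.psu 3 89) := by decide +kernel

theorem c3_97 : Chk [(2, 7), (3, 1), (7, 4), (67, 1), (97, 3), (139, 1)] 7836609208799616 139 1 (.psu 3 97) := by decide +kernel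

theorem c4_9 : Chk [(2, 9), (3, 12), (5, 3), (41, 1), (73, 1)] 101798586432000 73 1 (.psu 4 9) := by decide +kernel

theorem c4_11 : Chk [(2, 7), (3, 4), (5, 2), (11, 6), (37, 1), (61, 1)] 1036388695478400 37 1 (.psu 4 11) := by decide +kernel

theorem c4_13 : Chk [(2, 7), (3, 2), (5, 1), (7, 3), (13, 6), (17, 1), (157, 1)] 25452197883665280 157 1 (.psu 4 13) := by decide +kernel

theorem c4_16 : Chk [(2, 24), (3, 2), (5, 2), (17, 3), (241, 1), (257, 1)] 1148680752699801600 241 1 (.psu 4 16) := by decide +kernel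

theorem c4_17 : Chk [(2, 11), (3, 7), (5, 1), (7, 1), (13, 1), (17, 6), (29, 1)] 1426532459730094080 29 2 (.psu 4 17) := by decide +kernel

theorem c4_19 : Chk [(2, 7), (3, 4), (5, 3), (7, 3), (19, 6), (181, 1)] 3785291261439408000 181 1 (.psu 4 19) := by decide +kernel

theorem c4_23 : Chk [(2, 10), (3, 4), (5, 1), (11, 2), (13, 2), (23, 6), (53, 1)] 66538030303401845760 53 2 (.psu 4 23) := by decide +kernel

theorem c4_25 : Chk [(2, 9), (3, 2), (5, 12), (13, 3), (313, 1), (601, 1)] 464944793625000000000 601 1 (.psu 4 25) := by decide +kernel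

theorem c4_27 : Chk [(2, 7), (3, 18), (5, 1), (7, 3), (13, 2), (19, 1), (37, 1), (73, 1)] 737601122106242110080 37 2 (.psu 4 27) := by decide +kernel

theorem c4_29 : Chk [(2, 7), (3, 4), (5, 3), (7, 2), (29, 6), (271, 1), (421, 1)] 4309634663229463344000 271 2 (.psu 4 29) := by decide +kernel

theorem c4_31 : Chk [(2, 16), (3, 2), (5, 2), (7, 2), (13, 1), (19, 1), (31, 6), (37, 1)] 5860401476453366169600 19 2 (.psu 4 31) := by decide +kernel

theorem c4_32 : Chk [(2, 30), (3, 4), (5, 2), (11, 3), (31, 2), (41, 1), (331, 1)] 37743154175703357849600 331 2 (.psu 4 32) := by decide +kernel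

theorem c4_37 : Chk [(2, 7), (3, 4), (5, 1), (19, 3), (31, 1), (37, 6), (43, 1), (137, 1)] 166604549539925370003840 43 2 (.psu 4 37) := by decide +kernel

theorem c4_41 : Chk [(2, 9), (3, 4), (5, 2), (7, 3), (29, 2), (41, 6), (547, 1)] 777097605973616998156800 547 2 (.psu 4 41) := by decide +kernel

theorem c4_43 : Chk [(2, 7), (3, 2), (5, 2), (7, 2), (11, 3), (13, 1), (37, 1), (43, 6), (139, 1)] 793847777722539895555200 139 2 (.psu 4 43) := by decide +kernel

theorem c4_47 : Chk [(2, 13), (3, 4), (5, 1), (7, 1), (13, 1), (17, 1), (23, 2), (47, 6), (103, 1)] 3014500254733584812482560 103 3 (.psu 4 47) := by decide +kernel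

theorem c4_49 : Chk [(2, 11), (3, 2), (5, 6), (7, 12), (13, 1), (181, 1), (1201, 1)] 11265070201783935264000000 181 2 (.psu 4 49) := by decide +kernel

theorem c4_53 : Chk [(2, 7), (3, 10), (5, 1), (13, 2), (53, 6), (281, 1), (919, 1)] 36555798492660698146247040 919 1 (.psu 4 53) := by decide +kernel

theorem c4_59 : Chk [(2, 7), (3, 4), (5, 3), (7, 1), (29, 2), (59, 6), (163, 1), (1741, 1)] 91326640612967526621456000 163 3 (.psu 4 59) := by decide +kernel

theorem c4_61 : Chk [(2, 7), (3, 2), (5, 2), (7, 1), (31, 3), (61, 6), (523, 1), (1861, 1)] 301163739690412257916924800 523 2 (.psu 4 61) := by decide +kernel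

theorem c4_64 : Chk [(2, 36), (3, 4), (5, 3), (7, 2), (13, 3), (17, 1), (37, 1), (109, 1), (241, 1)] 1237642455274794680057856000 109 3 (.psu 4 64) := by decide +kernel

theorem c4_67 : Chk [(2, 7), (3, 2), (5, 1), (11, 2), (17, 3), (67, 6), (449, 1), (4423, 1)] 615129725635054023113850240 4423 1 (.psu 4 67) := by decide +kernel

theorem c4_71 : Chk [(2, 10), (3, 7), (5, 2), (7, 2), (71, 6), (1657, 1), (2521, 1)] 1468014261815328924915993600 1657 2 (.psu 4 71) := by decide +kernel

theorem c4_73 : Chk [(2, 9), (3, 4), (5, 1), (7, 1), (13, 1), (37, 3), (41, 1), (73, 6), (751, 1)] 4453818379737953777219934720 751 2 (.psu 4 73) := by decide +kernel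

theorem c4_79 : Chk [(2, 13), (3, 2), (5, 3), (13, 2), (79, 6), (3121, 1), (6163, 1)] 7282452403085342611295232000 6163 2 (.psu 4 79) := by decide +kernel

theorem c4_81 : Chk [(2, 11), (3, 24), (5, 2), (17, 1), (41, 3), (193, 1), (6481, 1)] 21192387981494863984187443200 6481 1 (.psu 4 81) := by decide +kernel

theorem c4_83 : Chk [(2, 7), (3, 4), (5, 1), (7, 3), (13, 1), (41, 2), (53, 1), (83, 6), (2269, 1)] 15277387642767121673898794880 2269 2 (.psu 4 83) := by decide +kernel

theorem c4_89 : Chk [(2, 9), (3, 7), (5, 3), (7, 1), (11, 2), (17, 1), (89, 6), (233, 1), (373, 1)] 87049419924738584667106368000 373 3 (.psu 4 89) := by decide +kernel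

theorem c4_97 : Chk [(2, 13), (3, 2), (5, 1), (7, 6), (67, 1), (97, 6), (139, 1), (941, 1)] 316592286522064887441491435520 139 2 (.psu 4 97) := by decide +kernel

end Cfsg.Agent.H418.UNums
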